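import Groth.Prelude.Def_Formal
import Groth.Prelude.Def_DCoh2
import Groth.Agent.Bounded.Cokernel
import Groth.Agent.Algz7.Restrict
import Groth.Agent.KFlatLib.Perfect.DLocal
import Groth.Agent.KFlatLib.Scheme.RpushRestrict

/-!
# Multiplication by a global function on `D(O_X)`
-/

set_option linter.style.haveILetI false
set_option backward.isDefEq.respectTransparency false
set_option backward.isDefEq.respectTransparency.types false

universe u

open CategoryTheory CategoryTheory.Limits AlgebraicGeometry

attribute [local instance] HasDerivedCategory.standard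

namespace Groth.Agent.ShriekSupp7

open Groth.Agent.KFlatLib

variable {X Y U : Scheme.{u}}

/-- Restriction of multiplication by a function. -/
theorem restrict_smulModΓ (j : U ⟶ X) [IsOpenImmersion j] (M : X.Modules) (r : Coh.Γtop X) :
    (Scheme.Modules.restrictFunctor j).map (Formal.smulModΓ M r) =
      Formal.smulModΓ ((Scheme.Modules.restrictFunctor j).obj M) (j.appTop r) := by
  apply SheafOfModules.Hom.ext
  ext V m
  exact congrArg (· • (show Γ(M, j ''ᵁ V.unop) from m)) (Algz7.appIso_inv_res j V.unop r)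

theorem smulModΓ_mul (M : X.Modules) (r s : Coh.Γtop X) :
    Formal.smulModΓ M (r * s) = Formal.smulModΓ M s ≫ Formal.smulModΓ M r := by
  apply SheafOfModules.Hom.ext
  ext V m
  show X.presheaf.map (homOfLE (le_top (a := V.unop))).op (r * s) • (show Γ(M, V.unop) from m) =
    X.presheaf.map (homOfLE (le_top (a := V.unop))).op r •
      (X.presheaf.map (homOfLE (le_top (a := V.unop))).op s • (show Γ(M, V.unop) from m))
  rw [← mul_smul, ← map_mul]

theorem smulModΓ_one (M : X.Modules) : Formal.smulModΓ M (1 : Coh.Γtop X) = 𝟙 M := by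
  apply SheafOfModules.Hom.ext
  ext V m
  show X.presheaf.map (homOfLE (le_top (a := V.unop))).op (1 : Γ(X, ⊤)) • (show Γ(M, V.unop) from m) = m
  rw [map_one, one_smul]

/-- Multiplication by `r` on complexes. -/
noncomputable def muCx (r : Coh.Γtop X) :
    𝟭 (CochainComplex X.Modules ℤ) ⟶ 𝟭 (CochainComplex X.Modules ℤ) where
  app K :=
    { f := fun n => Formal.smulModΓ (K.X n) r
      comm' := fun i j _ => (KLin.comp_smulModΓ (K.d i j) r).symm }
  naturality K L φ := by
    ext n : 1
    exact KLin.comp_smulModΓ (φ.f n) r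

/-- Multiplication by `r` on the derived category. -/
noncomputable def mu (r : Coh.Γtop X) : 𝟭 (DCoh.D X) ⟶ 𝟭 (DCoh.D X) :=
  Localization.liftNatTrans DerivedCategory.Q
    (HomologicalComplex.quasiIso X.Modules (ComplexShape.up ℤ))
    DerivedCategory.Q DerivedCategory.Q (𝟭 _) (𝟭 _)
    (DerivedCategory.Q.leftUnitor.inv ≫ Functor.whiskerRight (muCx r) DerivedCategory.Q ≫
      DerivedCategory.Q.leftUnitor.hom)

@[simp]
theorem mu_Q (r : Coh.Γtop X) (K : CochainComplex X.Modules ℤ) :
    (mu r).app (DerivedCategory.Q.obj K) = DerivedCategory.Q.map ((muCx r).app K) := by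
  simp [mu]

theorem mu_comm (r : Coh.Γtop X) {A B : DCoh.D X} (g : A ⟶ B) :
    (mu r).app A ≫ g = g ≫ (mu r).app B :=
  ((mu r).naturality g).symm

theorem muCx_mul (r s : Coh.Γtop X) : muCx (r * s) = muCx s ≫ muCx r := by
  ext K n : 3
  exact smulModΓ_mul _ r s

theorem muCx_one : muCx (1 : Coh.Γtop X) = 𝟙 _ := by
  ext K n : 3
  exact smulModΓ_one _

theorem mu_mul (r s : Coh.Γtop X) : mu (r * s) = mu s ≫ mu r := by
  refine Localization.natTrans_ext DerivedCategory.Q
    (HomologicalComplex.quasiIso X.Modules (ComplexShape.up ℤ)) fun K => ?_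
  rw [NatTrans.comp_app, mu_Q, mu_Q, mu_Q, muCx_mul, NatTrans.comp_app]
  exact DerivedCategory.Q.map_comp _ _

theorem mu_one : mu (1 : Coh.Γtop X) = 𝟙 _ := by
  refine Localization.natTrans_ext DerivedCategory.Q
    (HomologicalComplex.quasiIso X.Modules (ComplexShape.up ℤ)) fun K => ?_
  rw [mu_Q, muCx_one]
  exact DerivedCategory.Q.map_id _

theorem isIso_mu {r : Coh.Γtop X} (hr : IsUnit r) : IsIso (mu r) := by
  obtain ⟨s, rfl⟩ := hr
  exact ⟨mu (↑s⁻¹ : Coh.Γtop X), by rw [← mu_mul, Units.inv_mul, mu_one],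
    by rw [← mu_mul, Units.mul_inv, mu_one]⟩

/-- Compatibility with restriction. -/
theorem rho_mu (j : U ⟶ X) [IsOpenImmersion j] (r : Coh.Γtop X) (E : DCoh.D X) :
    (rho j).map ((mu r).app E) = (mu (j.appTop r)).app ((rho j).obj E) := by
  refine congr_app (Localization.natTrans_ext DerivedCategory.Q
    (HomologicalComplex.quasiIso X.Modules (ComplexShape.up ℤ))
    (τ := Functor.whiskerRight (mu r) (rho j)) (τ' := Functor.whiskerLeft (rho j) (mu (j.appTop r)))
    fun K => ?_) E
  show (rho j).map ((mu r).app (DerivedCategory.Q.obj K)) =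
    (mu (j.appTop r)).app ((rho j).obj (DerivedCategory.Q.obj K))
  rw [mu_Q]
  refine (cancel_mono ((rhoQ j).hom.app K)).1 ?_
  refine ((rhoQ j).hom.naturality _).trans ?_
  rw [mu_comm]
  refine congrArg (_ ≫ ·) ?_
  refine Eq.trans ?_ (mu_Q _ _).symm
  refine congrArg DerivedCategory.Q.map ?_
  ext n : 1
  exact restrict_smulModΓ j _ r

variable (f : X ⟶ Y)

/-- Compatibility with the derived direct image. -/
theorem rpush_mu [DCoh.HasRpush f] (r : Coh.Γtop Y) (E : DCoh.D X) :
    (DCoh.Rpush f).map ((mu (f.appTop r)).app E) = (mu r).app ((DCoh.Rpush f).obj E) := by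
  obtain ⟨I, s, hI, hs⟩ := exists_kInjective_res (DerivedCategory.Q.objPreimage E)
  haveI := hs
  let qI := (HomotopyCategory.quotient X.Modules (ComplexShape.up ℤ)).obj I
  let i : DerivedCategory.Qh.obj qI ≅ E :=
    (DerivedCategory.quotientCompQhIso X.Modules).app I ≪≫
      (asIso (DerivedCategory.Q.map s)).symm ≪≫ DerivedCategory.Q.objObjPreimageIso E
  rw [← cancel_epi ((DCoh.Rpush f).map i.hom), ← Functor.map_comp, ← mu_comm, Functor.map_comp,
    ← mu_comm]
  refine congrArg (· ≫ _) ?_
  let β := (DCoh.pushKh f).totalRightDerivedUnit DerivedCategory.Qh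
    (HomotopyCategory.quasiIso X.Modules (ComplexShape.up ℤ))
  haveI : IsIso (β.app qI) := isIso_unit_of_kInjective f I
  have h1 : (mu (f.appTop r)).app (DerivedCategory.Qh.obj qI) = DerivedCategory.Qh.map
      ((HomotopyCategory.quotient X.Modules (ComplexShape.up ℤ)).map ((muCx (f.appTop r)).app I)) := by
    refine (cancel_mono ((DerivedCategory.quotientCompQhIso X.Modules).hom.app I)).1 ?_
    refine (mu_comm _ _).trans ?_
    refine Eq.trans ?_ ((DerivedCategory.quotientCompQhIso X.Modules).hom.naturality _).symm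
    exact congrArg (_ ≫ ·) (mu_Q _ _)
  rw [← cancel_epi (β.app qI), h1]
  refine (β.naturality _).symm.trans ?_
  refine Eq.trans ?_ (mu_comm r (β.app qI))
  refine congrArg (· ≫ β.app qI) ?_
  let e : (DCoh.pushKh f).obj qI ≅
      DerivedCategory.Q.obj (((Scheme.Modules.pushforward f).mapHomologicalComplex _).obj I) :=
    DerivedCategory.Qh.mapIso
      (((Scheme.Modules.pushforward f).mapHomotopyCategoryFactors (ComplexShape.up ℤ)).app I) ≪≫
      (DerivedCategory.quotientCompQhIso Y.Modules).app _
  refine (cancel_mono e.hom).1 ?_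
  rw [mu_comm, mu_Q]
  have hnat := (Functor.isoWhiskerRight ((Scheme.Modules.pushforward f).mapHomotopyCategoryFactors
      (ComplexShape.up ℤ)) DerivedCategory.Qh ≪≫ Functor.associator _ _ _ ≪≫
      Functor.isoWhiskerLeft _ (DerivedCategory.quotientCompQhIso Y.Modules)).hom.naturality
      ((muCx (f.appTop r)).app I)
  have hcx : ((Scheme.Modules.pushforward f).mapHomologicalComplex (ComplexShape.up ℤ)).map
      ((muCx (f.appTop r)).app I) = (muCx r).app _ := by
    ext n : 1
    exact Bounded.pushforward_smulModΓ f _ r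
  simp [e, hcx] at hnat ⊢
  exact hnat

end Groth.Agent.ShriekSupp7
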