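import Groth.Agent.ShriekSupp7.Kill
import Groth.Agent.KFlatLib.Scheme.RightAdjBound
import Groth.Agent.PerfGen7.RpushCohBound
import Groth.Agent.QCohRep7.Basic
import Groth.Agent.QCohRep7.Homology
import Groth.Agent.CohLimX.Basic
import Groth.Prelude.Def_DDual2

/-!
# Supports of `a(Q)` over an affine base
-/

set_option linter.style.haveILetI false
set_option backward.isDefEq.respectTransparency false
set_option backward.isDefEq.respectTransparency.types false

universe u

open CategoryTheory CategoryTheory.Limits AlgebraicGeometry Pretriangulated CategoryTheory.Triangulated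

attribute [local instance] HasDerivedCategory.standard

namespace Groth.Agent.ShriekSupp7

open Groth.Agent.KFlatLib Groth.Agent.PerfGen7

variable {X Y : Scheme.{u}}

/-- On the preimage of `D(r)`, maps from bounded coherent objects into `a(Q)` vanish. -/
theorem rho_map_eq_zero [IsNoetherian Y] [IsAffine Y] (f : X ⟶ Y) [IsProper f] [DCoh.HasRpush f]
    (h : DCoh.RpushPreservesQCoh f) {a : DCoh.DQCoh Y ⥤ DCoh.DQCoh X} (adj : DCoh.RpushQ f h ⊣ a)
    (r : Coh.Γtop Y) (Q : DCoh.DQCoh Y) (c : ℤ) [Q.obj.IsGE c]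
    (hs : Supp Q.obj ((Y.basicOpen r : Set Y)ᶜ))
    (W : X.Opens) (hW : W ≤ f ⁻¹ᵁ Y.basicOpen r)
    (L : DCoh.DQCoh X) (a₀ b₀ : ℤ) [L.obj.IsGE a₀] [L.obj.IsLE b₀]
    (hL : ∀ i, Coh.IsCoh (DCoh.HD L.obj i)) (ψ : L ⟶ a.obj Q) :
    (rho W.ι).map ψ.hom = 0 := by
  haveI : CompactSpace X := QuasiCompact.compactSpace_of_compactSpace f
  haveI := LocallyOfFiniteType.isLocallyNoetherian f
  haveI : IsNoetherian X := {}
  have hgood : ∀ i, GoodMod f (DCoh.HD L.obj i) := fun i => by
    refine ⟨hL i, Or.inr ⟨QCoh.isClosed_support_of_isFT (hL i).1 (hL i).2, ?_⟩⟩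
    infer_instance
  have hcoh := isCohD_rpush_of_isGE f L.obj a₀ hgood
  obtain ⟨b', hb'⟩ := exists_isLE_rpush_of_support f L.obj L.property b₀ Set.univ isClosed_univ
    isCompact_univ (fun _ => Set.subset_univ _)
  haveI := hb'
  let g := (adj.homEquiv L Q).symm ψ
  obtain ⟨n, hn⟩ := exists_mu_kill hcoh (h L.obj L.property) b' Q.property c r hs g.hom
  let m : L ⟶ L := ObjectProperty.homMk ((mu (f.appTop (r ^ n : Coh.Γtop Y))).app L.obj)
  have hm : m ≫ ψ = 0 := by
    refine (adj.homEquiv L Q).symm.injective ?_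
    rw [Adjunction.homEquiv_naturality_left_symm]
    haveI := PerfGen7.rpush_additive f
    haveI : (DCoh.RpushQ f h).Additive :=
      ⟨fun {_ _} {_ _} => ObjectProperty.hom_ext _ ((DCoh.Rpush f).map_add)⟩
    rw [show (adj.homEquiv L Q).symm 0 = 0 by simp [Adjunction.homEquiv_counit]]
    refine ObjectProperty.hom_ext _ ?_
    show (DCoh.Rpush f).map ((mu (f.appTop (r ^ n : Coh.Γtop Y))).app L.obj) ≫ g.hom = 0
    rw [rpush_mu]
    exact hn
  have h0 : (rho W.ι).map ((mu (f.appTop (r ^ n : Coh.Γtop Y))).app L.obj) ≫ (rho W.ι).map ψ.hom = 0 := by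
    rw [← Functor.map_comp, show (mu (f.appTop (r ^ n : Coh.Γtop Y))).app L.obj ≫ ψ.hom = 0 from
      congrArg (fun t => t.hom) hm]
    exact Functor.map_zero _ _ _
  rw [rho_mu] at h0
  have hu : IsUnit (W.ι.appTop (f.appTop (r ^ n : Coh.Γtop Y))) := by
    rw [show (W.ι.appTop (f.appTop (r ^ n : Coh.Γtop Y))) = (W.ι.appTop (f.appTop (r : Γ(Y, ⊤)))) ^ n by
      rw [← map_pow, ← map_pow]]
    refine IsUnit.pow n ?_
    refine W.toScheme.toLocallyRingedSpace.toRingedSpace.isUnit_of_isUnit_germ ⊤ _ fun x hx => ?_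
    refine (W.toScheme.mem_basicOpen _ x hx).1 ?_
    rw [← Scheme.preimage_basicOpen_top, ← Scheme.preimage_basicOpen_top]
    exact hW x.2
  haveI := isIso_mu (X := W.toScheme) hu
  exact (cancel_epi ((mu (X := W.toScheme) (W.ι.appTop (f.appTop (r ^ n : Coh.Γtop Y)))).app ((rho W.ι).obj L.obj))).1
    (h0.trans comp_zero.symm)

/-- Morphisms vanishing on an open kill its sections. -/
theorem app_eq_zero_of_restrict {M N : X.Modules} (φ : M ⟶ N) (W : X.Opens)
    (h : (Scheme.Modules.restrictFunctor W.ι).map φ = 0) (t : Γ(M, W)) : φ.app W t = 0 := by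
  have hW : W.ι ''ᵁ ⊤ = W := W.ι_image_top
  have h1 : φ.app (W.ι ''ᵁ ⊤) (M.presheaf.map (homOfLE hW.le).op t) = 0 :=
    congr($(h).app ⊤ (M.presheaf.map (homOfLE hW.le).op t))
  have h2 := ConcreteCategory.congr_hom (φ.mapPresheaf.naturality (homOfLE hW.le).op) t
  have h3 : N.presheaf.map (homOfLE hW.le).op (φ.app W t) = 0 := h2.symm.trans h1
  have h4 := congrArg (N.presheaf.map (homOfLE hW.ge).op) h3
  rw [map_zero] at h4
  exact ((ConcreteCategory.congr_hom (N.presheaf.map_id (Opposite.op W)) (φ.app W t)).symm.trans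
    (QCoh.map_map _ _ (φ.app W t)).symm).trans h4

/-- Homology of a morphism vanishing on an open. -/
theorem restrict_hd_map_eq_zero {E E' : DCoh.D X} (ψ : E ⟶ E') (W : X.Opens) (h : (rho W.ι).map ψ = 0)
    (i : ℤ) : (Scheme.Modules.restrictFunctor W.ι).map
      ((DerivedCategory.homologyFunctor X.Modules i).map ψ) = 0 := by
  have hn := (mapDCHomologyIso (Scheme.Modules.restrictFunctor W.ι) i).hom.naturality ψ
  simp only [Functor.comp_map] at hn
  rw [show (Scheme.Modules.restrictFunctor W.ι).mapDerivedCategory.map ψ = 0 from h, Functor.map_zero,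
    zero_comp] at hn
  exact (cancel_epi ((mapDCHomologyIso (Scheme.Modules.restrictFunctor W.ι) i).hom.app E)).1
    (hn.symm.trans comp_zero.symm)

/-- **Supports, affine base.** -/
theorem supp_affine [IsNoetherian Y] [IsAffine Y] (f : X ⟶ Y) [IsProper f] [DCoh.HasRpush f]
    (h : DCoh.RpushPreservesQCoh f) {a : DCoh.DQCoh Y ⥤ DCoh.DQCoh X} (adj : DCoh.RpushQ f h ⊣ a)
    (r : Coh.Γtop Y) (Q : DCoh.DQCoh Y) (c : ℤ) [Q.obj.IsGE c]
    (hs : Supp Q.obj ((Y.basicOpen r : Set Y)ᶜ)) :
    Supp (a.obj Q).obj ((f ⁻¹ᵁ Y.basicOpen r : Set X)ᶜ) := by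
  haveI : CompactSpace X := QuasiCompact.compactSpace_of_compactSpace f
  haveI := LocallyOfFiniteType.isLocallyNoetherian f
  haveI : IsNoetherian X := {}
  obtain ⟨N, hN⟩ := exists_rightAdjoint_bound f h a adj
  haveI : (a.obj Q).obj.IsGE (c - 1 - N + 1) := (DerivedCategory.isGE_iff _ _).2 fun j hj =>
    hN Q (c - 1) (fun k hk => DerivedCategory.isZero_of_isGE Q.obj c k (by omega)) j (by omega)
  refine supp_iff.2 fun x hx i => ?_
  have hxD : x ∈ f ⁻¹ᵁ Y.basicOpen r := not_not.1 hx
  let t : TStructure (DCoh.D X) := DerivedCategory.TStructure.t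
  let G := (t.truncLE i).obj (a.obj Q).obj
  haveI hGle : G.IsLE i := t.isLE_truncLE_obj (a.obj Q).obj i i le_rfl
  obtain ⟨G', hG'⟩ : ∃ G' : DCoh.D X, G' = G := ⟨_, rfl⟩
  obtain ⟨Y', hY', g', d', hT⟩ : ∃ (Y' : DCoh.D X) (_ : Y'.IsGE (i + 1)) (g' : (a.obj Q).obj ⟶ Y')
      (d' : Y' ⟶ G⟦(1 : ℤ)⟧), Triangle.mk ((t.truncLEι i).app (a.obj Q).obj) g' d' ∈ distTriang _ :=
    ⟨_, t.isGE_truncGE_obj _ _ _ le_rfl, _, _, t.triangleLEGE_distinguished i (i + 1) rfl _⟩
  let ι := (t.truncLEι i).app (a.obj Q).obj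
  let H := DerivedCategory.homologyFunctor X.Modules
  have hiso : ∀ j ≤ i, IsIso ((H j).map ι) := fun j hj => by
    haveI : Epi ((H j).map ι) := (DerivedCategory.HomologySequence.exact₂ _ hT j).epi_f
      ((DerivedCategory.isZero_of_isGE Y' (i + 1) j (by omega)).eq_of_tgt _ _)
    haveI : Mono ((H j).map ι) := (DerivedCategory.HomologySequence.mono_homologyMap_mor₁_iff _ hT
      (j - 1) j (by omega)).2 ((DerivedCategory.isZero_of_isGE Y' (i + 1) (j - 1) (by omega)).eq_of_src _ _)
    exact isIso_of_mono_of_epi _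
  haveI : G.IsGE (c - 1 - N + 1) := (DerivedCategory.isGE_iff _ _).2 fun j hj => by
    by_cases hji : j ≤ i
    · haveI := hiso j hji
      exact (DerivedCategory.isZero_of_isGE (a.obj Q).obj (c - 1 - N + 1) j hj).of_iso (asIso ((H j).map ι))
    · exact DerivedCategory.isZero_of_isLE G i j (by omega)
  have hGq : DCoh.IsQCohD G := fun j => by
    by_cases hji : j ≤ i
    · haveI := hiso j hji
      exact isQCoh_of_iso (asIso ((H j).map ι)).symm ((a.obj Q).property j)
    · exact isQCoh_of_isZero (DerivedCategory.isZero_of_isLE G i j (by omega))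
  obtain ⟨L, a₀, hLge, hLq, -, ⟨eL⟩⟩ := QCohRep7.exists_injective_rep G (c - 1 - N + 1) i hGq
  let φ : DerivedCategory.Q.obj L ⟶ (a.obj Q).obj := eL.hom ≫ ι
  haveI : IsIso ((H i).map φ) := by
    haveI := hiso i le_rfl
    simp only [φ, Functor.map_comp]
    infer_instance
  let eH := (DerivedCategory.homologyFunctorFactors X.Modules i).app L
  suffices key : IsZero ((DerSch.stalkFunctor X x).obj (L.homology i)) from
    key.of_iso ((DerSch.stalkFunctor X x).mapIso ((asIso ((H i).map φ)).symm ≪≫ eH))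
  have key' : ∀ W : X.Opens, IsAffineOpen W → W ≤ f ⁻¹ᵁ Y.basicOpen r → ∀ s : Γ(L.homology i, W), s = 0 := by
    intro W hWa hWD s
    obtain ⟨z, rfl⟩ := QCohRep7.homologyπ_surjective hLq hWa i s
    obtain ⟨F, j, hFc, z', rfl⟩ := CohLimX.exists_coh_mono_of_section (QCohRep7.isQCoh_cycles hLq i) W hWa z
    let S := (HomologicalComplex.single X.Modules (ComplexShape.up ℤ) i).obj F
    let χ : S ⟶ L := HomologicalComplex.mkHomFromSingle (j ≫ L.iCycles i) fun k _ => by simp
    have hcyc : (HomologicalComplex.singleObjCyclesSelfIso (ComplexShape.up ℤ) i F).inv ≫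
        HomologicalComplex.cyclesMap χ i = j := by
      rw [← cancel_mono (L.iCycles i)]
      simp [χ, S]
    have hj : j ≫ L.homologyπ i = ((HomologicalComplex.singleObjCyclesSelfIso (ComplexShape.up ℤ) i F).inv ≫
        S.homologyπ i) ≫ HomologicalComplex.homologyMap χ i := by
      rw [Category.assoc, HomologicalComplex.homologyπ_naturality, ← Category.assoc, hcyc]
    haveI hSi : (DerivedCategory.Q.obj S).IsLE i := inferInstance
    haveI hSi' : (DerivedCategory.Q.obj S).IsGE i := inferInstance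
    have hSc : ∀ k, Coh.IsCoh (DCoh.HD (DerivedCategory.Q.obj S) k) := fun k => by
      refine isCoh_of_iso ((DerivedCategory.homologyFunctorFactors X.Modules k).app S).symm ?_
      by_cases hk : k = i
      · subst hk
        exact isCoh_of_iso (HomologicalComplex.singleObjHomologySelfIso (ComplexShape.up ℤ) k F).symm hFc
      · exact isCoh_of_isZero (ShortComplex.exact_iff_isZero_homology _ |>.1
          (HomologicalComplex.exactAt_single_obj _ _ F k hk))
    let S' : DCoh.DQCoh X := ⟨DerivedCategory.Q.obj S, fun k => (hSc k).1⟩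
    haveI : S'.obj.IsLE i := hSi
    haveI : S'.obj.IsGE i := hSi'
    let ψ : S' ⟶ a.obj Q := ObjectProperty.homMk (DerivedCategory.Q.map χ ≫ φ)
    have hψ := restrict_hd_map_eq_zero _ W (rho_map_eq_zero f h adj r Q c hs W hWD S' i i hSc ψ) i
    have hχ : (Scheme.Modules.restrictFunctor W.ι).map (HomologicalComplex.homologyMap χ i) = 0 := by
      have h1 : (H i).map (DerivedCategory.Q.map χ ≫ φ) = (H i).map (DerivedCategory.Q.map χ) ≫ (H i).map φ :=
        Functor.map_comp _ _ _
      change (Scheme.Modules.restrictFunctor W.ι).map ((H i).map (DerivedCategory.Q.map χ ≫ φ)) = 0 at hψ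
      rw [h1, Functor.map_comp] at hψ
      have h2 := (cancel_mono ((Scheme.Modules.restrictFunctor W.ι).map ((H i).map φ))).1
        (hψ.trans zero_comp.symm)
      have h3 := congrArg (Scheme.Modules.restrictFunctor W.ι).map
        ((DerivedCategory.homologyFunctorFactors X.Modules i).hom.naturality χ)
      rw [Functor.map_comp, Functor.map_comp, Functor.comp_map] at h3
      rw [h2, zero_comp] at h3
      exact (cancel_epi ((Scheme.Modules.restrictFunctor W.ι).map
        ((DerivedCategory.homologyFunctorFactors X.Modules i).hom.app S))).1 (h3.symm.trans comp_zero.symm)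
    have h5 : (Scheme.Modules.restrictFunctor W.ι).map (j ≫ L.homologyπ i) = 0 := by
      rw [hj, Functor.map_comp, hχ, comp_zero]
    exact app_eq_zero_of_restrict (j ≫ L.homologyπ i) W h5 z'
  haveI : Subsingleton ((DerSch.stalkFunctor X x).obj (L.homology i) : Type u) := by
    refine subsingleton_of_forall_eq 0 fun y => ?_
    obtain ⟨U, hxU, s, rfl⟩ := TopCat.Presheaf.exists_germ_eq (L.homology i).presheaf (x := x) y
    obtain ⟨W, hWa, hxW, hWU⟩ := exists_isAffineOpen_mem_and_subset (x := x)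
      (U := U ⊓ f ⁻¹ᵁ Y.basicOpen r) ⟨hxU, hxD⟩
    have hWU' : W ≤ U := fun y hy => (hWU hy).1
    exact (TopCat.Presheaf.germ_res_apply (L.homology i).presheaf (homOfLE hWU') x hxW s).symm.trans
      ((congrArg _ (key' W hWa (fun y hy => (hWU hy).2) _)).trans (map_zero _))
  exact ModuleCat.isZero_of_subsingleton _

end Groth.Agent.ShriekSupp7
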