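import Groth.Agent.PerfGen7.PushSupp
import Groth.Agent.S1766
import Groth.Prelude.Def_DDual2
import Mathlib.CategoryTheory.Adjunction.Restrict
import Mathlib.CategoryTheory.Adjunction.Unique

/-!
# Open base change for a right adjoint of `Rf_*`
-/

set_option linter.style.haveILetI false
set_option backward.isDefEq.respectTransparency false

universe u

open CategoryTheory CategoryTheory.Limits AlgebraicGeometry Pretriangulated

attribute [local instance] HasDerivedCategory.standard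

namespace Groth.Agent.ShriekSupp7

open Groth.Agent.KFlatLib Groth.Agent.PerfGen7

variable {X Y U : Scheme.{u}}

/-- Restriction of quasi-coherent objects. -/
noncomputable abbrev restrictQ (j : U ⟶ X) [IsOpenImmersion j] : DCoh.DQCoh X ⥤ DCoh.DQCoh U :=
  ObjectProperty.lift _ (ObjectProperty.ι _ ⋙ rho j) fun K => KFlatLib.isQCohD_rho j K.property

/-- Restriction is left adjoint to the direct image. -/
noncomputable def adjRQ (j : U ⟶ X) [IsOpenImmersion j] [DCoh.HasRpush j]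
    (h : DCoh.RpushPreservesQCoh j) : restrictQ j ⊣ DCoh.RpushQ j h :=
  (adjR j).restrictFullyFaithful (ObjectProperty.fullyFaithfulι _) (ObjectProperty.fullyFaithfulι _)
    (Iso.refl _) (Iso.refl _)

/-- `a (Rj_* G) = Rj'_* (a_W G)`. -/
theorem exists_rightAdjoint_baseChange [CompactSpace X] [QuasiSeparatedSpace X] [CompactSpace Y]
    [QuasiSeparatedSpace Y] (f : X ⟶ Y) [DCoh.HasRpush f] (h : DCoh.RpushPreservesQCoh f)
    {a : DCoh.DQCoh Y ⥤ DCoh.DQCoh X} (adj : DCoh.RpushQ f h ⊣ a) (W : Y.Opens)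
    [CompactSpace W] [CompactSpace (f ⁻¹ᵁ W : X.Opens)]
    [DCoh.HasRpush W.ι] (hW : DCoh.RpushPreservesQCoh W.ι)
    [DCoh.HasRpush (f ⁻¹ᵁ W).ι] (hW' : DCoh.RpushPreservesQCoh (f ⁻¹ᵁ W).ι)
    [DCoh.HasRpush (f ∣_ W)] (hf : DCoh.RpushPreservesQCoh (f ∣_ W)) :
    ∃ (aW : DCoh.DQCoh W.toScheme ⥤ DCoh.DQCoh (f ⁻¹ᵁ W).toScheme)
      (_ : DCoh.RpushQ (f ∣_ W) hf ⊣ aW),
      Nonempty (DCoh.RpushQ W.ι hW ⋙ a ≅ aW ⋙ DCoh.RpushQ (f ⁻¹ᵁ W).ι hW') := by
  haveI : QuasiSeparatedSpace W.toScheme :=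
    W.ι.isOpenEmbedding.quasiSeparatedSpace
  haveI : QuasiSeparatedSpace (f ⁻¹ᵁ W).toScheme :=
    (f ⁻¹ᵁ W).ι.isOpenEmbedding.quasiSeparatedSpace
  haveI : (DCoh.RpushQ (f ∣_ W) hf).IsLeftAdjoint :=
    Groth.Agent.S1766.result _ _ (f ∣_ W) hf
  let adjW := Adjunction.ofIsLeftAdjoint (DCoh.RpushQ (f ∣_ W) hf)
  refine ⟨_, adjW, ?_⟩
  obtain ⟨e⟩ := nonempty_rpush_restrictD_iso f W
  let eQ : DCoh.RpushQ f h ⋙ restrictQ W.ι ≅ restrictQ (f ⁻¹ᵁ W).ι ⋙ DCoh.RpushQ (f ∣_ W) hf :=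
    NatIso.ofComponents (fun K => ObjectProperty.isoMk _ (e.app K.obj))
      fun {_ _} g => ObjectProperty.hom_ext _ (e.hom.naturality g.hom)
  exact ⟨((adj.comp (adjRQ W.ι hW)).ofNatIsoLeft eQ).rightAdjointUniq
    ((adjRQ (f ⁻¹ᵁ W).ι hW').comp adjW)⟩

end Groth.Agent.ShriekSupp7
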