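import Groth.Agent.ShriekSupp7.Middle
import Groth.Agent.ShriekSupp7.BaseChange
import Groth.Agent.ShriekSupp7.Affine

/-!
# A right adjoint of `Rf_*` preserves supports, for proper `f` over a noetherian base
-/

set_option linter.style.haveILetI false
set_option backward.isDefEq.respectTransparency false
set_option backward.isDefEq.respectTransparency.types false

universe u

open CategoryTheory CategoryTheory.Limits AlgebraicGeometry Pretriangulated CategoryTheory.Triangulated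

attribute [local instance] HasDerivedCategory.standard

namespace Groth.Agent.ShriekSupp7

open Groth.Agent.KFlatLib Groth.Agent.PerfGen7

variable {X Y : Scheme.{u}}

/-- Restrictions of cohomology sheaves vanish iff the object is supported off the open. -/
theorem isZero_restrict_iff_supp (E : DCoh.D X) (U : X.Opens) :
    (∀ i : ℤ, IsZero ((DCoh.HD E i).restrict U.ι)) ↔ Supp E ((U : Set X)ᶜ) := by
  rw [← Scheme.Opens.range_ι U, ← isZero_rho_iff]
  constructor
  · exact fun h => isZero_of_supp_empty (supp_iff.2 fun u _ i =>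
      (DerSch.stalkFunctor _ u).map_isZero ((h i).of_iso (restrictHDIso U.ι E i)))
  · exact fun h i =>
      ((DerivedCategory.homologyFunctor _ i).map_isZero h).of_iso (restrictHDIso U.ι E i).symm

/-- The support statement for an affine open of the base. -/
theorem supp_rightAdjoint_rpush [IsNoetherian Y] (f : X ⟶ Y) [IsProper f] [DCoh.HasRpush f]
    (h : DCoh.RpushPreservesQCoh f) {a : DCoh.DQCoh Y ⥤ DCoh.DQCoh X} (adj : DCoh.RpushQ f h ⊣ a)
    (V : Y.Opens) (W : Y.Opens) (hW : IsAffineOpen W)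
    [DCoh.HasRpush W.ι] (hj : DCoh.RpushPreservesQCoh W.ι)
    (G : DCoh.DQCoh W.toScheme) (c : ℤ) [G.obj.IsGE c] (hG : Supp G.obj (W.ι.base ⁻¹' (V : Set Y)ᶜ)) :
    Supp (a.obj ((DCoh.RpushQ W.ι hj).obj G)).obj ((f ⁻¹ᵁ V : Set X)ᶜ) := by
  haveI : CompactSpace X := QuasiCompact.compactSpace_of_compactSpace f
  haveI := LocallyOfFiniteType.isLocallyNoetherian f
  haveI : IsNoetherian X := {}
  haveI : IsAffine W := hW
  haveI : CompactSpace W := isCompact_iff_compactSpace.1 hW.isCompact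
  haveI : IsLocallyNoetherian W.toScheme := isLocallyNoetherian_of_isOpenImmersion W.ι
  haveI : IsNoetherian W.toScheme := {}
  haveI : IsProper (f ∣_ W) := IsZariskiLocalAtTarget.restrict (P := @IsProper) inferInstance W
  haveI : CompactSpace (f ⁻¹ᵁ W : X.Opens) :=
    QuasiCompact.compactSpace_of_compactSpace (X := (f ⁻¹ᵁ W).toScheme) (f ∣_ W)
  haveI := hasRpush_scheme (f ∣_ W)
  haveI := hasRpush_scheme (f ⁻¹ᵁ W).ι
  have hf : DCoh.RpushPreservesQCoh (f ∣_ W) := fun K hK => KFlatLib.isQCohD_rpush (f ∣_ W) hK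
  have hj' : DCoh.RpushPreservesQCoh (f ⁻¹ᵁ W).ι :=
    fun K hK => KFlatLib.isQCohD_rpush (f ⁻¹ᵁ W).ι hK
  obtain ⟨aW, adjW, ⟨e⟩⟩ := exists_rightAdjoint_baseChange f h adj W hj hj' hf
  refine Supp.of_iso ((ObjectProperty.ι _).mapIso (e.app G)).symm ?_
  show Supp ((DCoh.Rpush (f ⁻¹ᵁ W).ι).obj (aW.obj G).obj) _
  refine supp_rpush _ (f ⁻¹ᵁ V).isOpen.isClosed_compl (supp_iff.2 fun x hx i => ?_)
  have hfx : (f ∣_ W) x ∈ W.ι ⁻¹ᵁ V := by
    show W.ι ((f ∣_ W) x) ∈ V
    rw [← Scheme.Hom.comp_apply, morphismRestrict_ι, Scheme.Hom.comp_apply]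
    exact not_not.1 hx
  obtain ⟨r, hr, hxr⟩ := (isAffineOpen_top W.toScheme).exists_basicOpen_le
    (V := W.ι ⁻¹ᵁ V) ⟨(f ∣_ W) x, hfx⟩ trivial
  refine supp_iff.1 (supp_affine (f ∣_ W) hf adjW r G c (hG.mono fun y hy hyr => hy (hr hyr))) x
    (fun hxr' => hxr' hxr) i

/-- **`a` preserves supports.** -/
theorem supp_rightAdjoint [IsNoetherian Y] (f : X ⟶ Y) [IsProper f] [DCoh.HasRpush f]
    (h : DCoh.RpushPreservesQCoh f) {a : DCoh.DQCoh Y ⥤ DCoh.DQCoh X} (adj : DCoh.RpushQ f h ⊣ a)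
    (V : Y.Opens) (Q : DCoh.DQCoh Y) (c : ℤ) [Q.obj.IsGE c] (hQ : Supp Q.obj ((V : Set Y)ᶜ)) :
    Supp (a.obj Q).obj ((f ⁻¹ᵁ V : Set X)ᶜ) := by
  classical
  obtain ⟨s, hs⟩ := isCompact_univ.elim_finite_subcover (fun W : Y.affineOpens => (W.1 : Set Y))
    (fun W => W.1.isOpen) (fun y _ => by
      obtain ⟨_, ⟨W, hW, rfl⟩, hyW, -⟩ :=
        Y.isBasis_affineOpens.exists_subset_of_mem_open (Set.mem_univ y) isOpen_univ
      exact Set.mem_iUnion.2 ⟨⟨W, hW⟩, hyW⟩)
  suffices H : ∀ (s : Finset Y.affineOpens) (Q : DCoh.DQCoh Y) (c : ℤ), Q.obj.IsGE c →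
      ∀ S : Set Y, IsClosed S → S ⊆ (V : Set Y)ᶜ → S ⊆ ⋃ W ∈ s, (W.1 : Set Y) → Supp Q.obj S →
      Supp (a.obj Q).obj ((f ⁻¹ᵁ V : Set X)ᶜ) from
    H s Q c inferInstance _ V.isOpen.isClosed_compl subset_rfl (fun y _ => hs trivial) hQ
  intro s
  induction s using Finset.induction_on with
  | empty =>
    intro Q c _ S _ _ hS hQS
    have hz : IsZero Q.obj := isZero_of_supp_empty (hQS.mono (by simpa using hS))
    haveI := PerfGen7.rpush_additive f
    haveI : (DCoh.RpushQ f h).Additive :=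
      ⟨fun {_ _} {_ _} => ObjectProperty.hom_ext _ ((DCoh.Rpush f).map_add)⟩
    haveI : a.Additive := adj.right_adjoint_additive
    have hz' : IsZero Q := (IsZero.iff_id_eq_zero Q).2 (ObjectProperty.hom_ext _ (hz.eq_of_src _ _))
    exact supp_of_isZero (Functor.map_isZero (ObjectProperty.ι _) (a.map_isZero hz')) _
  | insert W s _ ih =>
    intro Q c hGE S hSc hSV hS hQS
    haveI := hGE
    haveI := hasRpush_scheme W.1.ι
    haveI : CompactSpace W.1 := isCompact_iff_compactSpace.1 W.2.isCompact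
    haveI : IsLocallyNoetherian W.1.toScheme := isLocallyNoetherian_of_isOpenImmersion W.1.ι
    haveI : IsNoetherian W.1.toScheme := {}
    have hj : DCoh.RpushPreservesQCoh W.1.ι := fun K hK => KFlatLib.isQCohD_rpush W.1.ι hK
    obtain ⟨C, g, d, hT, hC⟩ := exists_unit_triangle W.1.ι Q.obj
    let G : DCoh.DQCoh W.1.toScheme := (restrictQ W.1.ι).obj Q
    haveI hG : G.obj.IsGE c := (DerivedCategory.isGE_iff _ _).2 fun i hi =>
      (Functor.map_isZero (Scheme.Modules.restrictFunctor W.1.ι)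
        (DerivedCategory.isZero_of_isGE Q.obj c i hi)).of_iso (restrictHDIso W.1.ι Q.obj i)
    let R : DCoh.DQCoh Y := (DCoh.RpushQ W.1.ι hj).obj G
    have hGS : Supp G.obj (W.1.ι.base ⁻¹' S) := hQS.rho W.1.ι
    have hRS : Supp R.obj S := supp_rpush W.1.ι hSc hGS
    have hCS : Supp C (S ∩ (W.1 : Set Y)ᶜ) := supp_iff.2 fun y hy i => by
      by_cases hyW : y ∈ (W.1 : Set Y)
      · exact supp_iff.1 hC y (fun hn => hn (by rw [Scheme.Opens.range_ι]; exact hyW)) i
      · exact supp_iff.1 (supp_obj₃ hT hQS hRS) y (fun hn => hy ⟨hn, hyW⟩) i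
    have hCq : DCoh.IsQCohD C := KFlatLib.isQCohD_obj₃ hT Q.property R.property
    haveI hCge : C.IsGE (c - 1) := (DerivedCategory.isGE_iff _ _).2 fun i hi => by
      refine (DerivedCategory.HomologySequence.exact₃ _ hT i (i + 1) rfl).isZero_of_both_zeros
        (IsZero.eq_of_src ?_ _ _) ((DerivedCategory.isZero_of_isGE Q.obj c (i + 1) (by omega)).eq_of_tgt _ _)
      exact isZero_hd_rpush_of_lt W.1.ι G.obj c i (by omega)
    let C' : DCoh.DQCoh Y := ⟨C⟦(-1 : ℤ)⟧, isQCohD_shift hCq (-1)⟩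
    haveI hC'ge : C'.obj.IsGE c :=
      DerivedCategory.TStructure.t.isGE_shift C (c - 1) (-1) c (by omega)
    have hC'supp : Supp (a.obj C').obj ((f ⁻¹ᵁ V : Set X)ᶜ) := by
      refine ih C' c hC'ge (S ∩ (W.1 : Set Y)ᶜ) (hSc.inter W.1.isOpen.isClosed_compl)
        (Set.inter_subset_left.trans hSV) (fun y hy => ?_) (hCS.shift (-1))
      have := hS hy.1
      simp only [Finset.set_biUnion_insert, Set.mem_union] at this
      exact this.resolve_left hy.2
    have hRsupp : Supp (a.obj R).obj ((f ⁻¹ᵁ V : Set X)ᶜ) :=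
      supp_rightAdjoint_rpush f h adj V W.1 W.2 hj G c (hGS.mono (Set.preimage_mono hSV))
    have hT' := inv_rot_of_distTriang _ hT
    exact supp_middle f h adj C' Q R (ObjectProperty.homMk (Triangle.mk _ g d).invRotate.mor₁)
      (ObjectProperty.homMk ((adjR W.1.ι).unit.app Q.obj)) _ hT' hC'supp hRsupp

end Groth.Agent.ShriekSupp7
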