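import Groth.Agent.ShriekSupp7.Scalar
import Groth.Agent.PerfGen7.BrownDQCoh
import Groth.Agent.PerfGen7.CompactPerfect
import Groth.Agent.PerfGen7.Supp

/-!
# Vanishing on `D(r)` from `r`-torsion of maps out of perfect objects
-/

set_option linter.style.haveILetI false
set_option backward.isDefEq.respectTransparency false
set_option backward.isDefEq.respectTransparency.types false

universe u

open CategoryTheory CategoryTheory.Limits AlgebraicGeometry Pretriangulated

attribute [local instance] HasDerivedCategory.standard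

namespace Groth.Agent.ShriekSupp7

open Groth.Agent.KFlatLib Groth.Agent.PerfGen7

variable {X U : Scheme.{u}}

/-- If all maps from perfect objects into `G` are killed by powers of `r`, then `G` vanishes where
`r` is invertible (a telescope argument). -/
theorem isZero_rho_of_tors_gen [CompactSpace X] [QuasiSeparatedSpace X] (j : U ⟶ X) [IsOpenImmersion j]
    {P : DCoh.D X} (hP : DCoh.IsPerfect P)
    (hdet : ∀ A : DCoh.D X, DCoh.IsQCohD A → (∀ (n : ℤ) (φ : P⟦n⟧ ⟶ A), φ = 0) → IsZero A)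
    {G : DCoh.D X} (hG : DCoh.IsQCohD G) (r : Coh.Γtop X) (hr : IsUnit (j.appTop r))
    (h : ∀ (n : ℤ) (y : P⟦n⟧ ⟶ G), ∃ N : ℕ, y ≫ (mu (r ^ N : Coh.Γtop X)).app G = 0) :
    IsZero ((rho j).obj G) := by
  classical
  haveI : ∀ J : Type u, HasColimitsOfShape (Discrete J) (DCoh.D X) :=
    fun J => TriCat.hasColimitsOfShape_derivedCategory
  haveI := hasRpush_scheme j
  let M : ULift.{u} ℕ → DCoh.D X := fun _ => G
  let ι : ∀ m : ℕ, G ⟶ ∐ M := fun m => Sigma.ι M ⟨m⟩
  let μ : G ⟶ G := (mu r).app G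
  let u' : ∐ M ⟶ ∐ M := Sigma.desc fun m => ι m.down - μ ≫ ι (m.down + 1)
  have hu : ∀ m, ι m ≫ u' = ι m - μ ≫ ι (m + 1) := fun m => Sigma.ι_desc _ _
  have hpow : ∀ m : ℕ, (mu (r ^ m : Coh.Γtop X)).app G ≫ μ = (mu (r ^ (m + 1) : Coh.Γtop X)).app G := by
    intro m
    rw [show (r ^ (m + 1) : Coh.Γtop X) = r * r ^ m from pow_succ' r m, mu_mul]
    rfl
  have hp0 : u' ≫ projAt M ⟨0⟩ = projAt M ⟨0⟩ := by
    refine Sigma.hom_ext _ _ fun m => ?_
    obtain ⟨m⟩ := m
    change ι m ≫ u' ≫ _ = ι m ≫ _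
    rw [← Category.assoc, hu, Preadditive.sub_comp, Category.assoc,
      show ι (m + 1) ≫ projAt M ⟨0⟩ = 0 from ι_projAt_ne M (by simp), comp_zero, sub_zero]
  have hp : ∀ k : ℕ, u' ≫ projAt M ⟨k + 1⟩ = projAt M ⟨k + 1⟩ - (projAt M ⟨k⟩ ≫ μ : ∐ M ⟶ M ⟨k + 1⟩) := by
    intro k
    refine Sigma.hom_ext _ _ fun m => ?_
    obtain ⟨m⟩ := m
    change ι m ≫ u' ≫ _ = ι m ≫ _
    rw [← Category.assoc, hu, Preadditive.sub_comp, Preadditive.comp_sub, Category.assoc,
      ← Category.assoc (ι m) (projAt M ⟨k⟩) μ]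
    congr 1
    by_cases hmk : m = k
    · subst hmk
      rw [show ι m ≫ projAt M ⟨m⟩ = 𝟙 G from ι_projAt_self M _,
        show ι (m + 1) ≫ projAt M ⟨m + 1⟩ = 𝟙 G from ι_projAt_self M _]
      exact (Category.comp_id μ).trans (Category.id_comp μ).symm
    · rw [show ι (m + 1) ≫ projAt M ⟨k + 1⟩ = 0 from ι_projAt_ne M (by simp; omega),
        show ι m ≫ projAt M ⟨k⟩ = 0 from ι_projAt_ne M (by simp; omega), comp_zero, zero_comp]
  have hctx : ∀ N : DCoh.D X, Brown.Ctx (DCoh.IsQCohD (X := X)) P (𝟭 (DCoh.D X)) N := fun N =>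
    ⟨fun J M hM => isQCohD_sigma M hM, isQCohD_of_isPerfect hP, hdet,
      fun J M hM => fix_of_isPerfect_qcoh hP M hM,
      fun J M _ => ⟨fun x x' hxx => Sigma.hom_ext _ _ fun j => congrFun hxx j,
        fun z => ⟨Sigma.desc z, funext fun j => Sigma.ι_desc _ _⟩⟩,
      fun T hT _ _ x hx => Triangle.yoneda_exact₂ _ hT x hx, small_hom, fun A => small_hom _ _⟩
  have hu_iso : IsIso u' := by
    refine Brown.isIso_of_good (hctx (∐ M)) (isQCohD_sigma M fun _ => hG) (isQCohD_sigma M fun _ => hG)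
      (x := u') (x' := 𝟙 _) (fun n => ?_) (fun n => ⟨fun g g' h => by simpa using h, fun g => ⟨g, by simp⟩⟩)
      u' (Category.comp_id u')
    have hPn : DCoh.IsPerfect (P⟦n⟧) := isPerfect_shift' hP n
    have hfix : FixAt M (P⟦n⟧) := (fix_of_isPerfect_qcoh hPn M fun _ => hG).at_zero
    refine ⟨fun g g' hgg => sub_eq_zero.1 ?_, fun y => ?_⟩
    · have hgg' : g ≫ u' = g' ≫ u' := hgg
      obtain ⟨x, hx⟩ : ∃ x : P⟦n⟧ ⟶ ∐ M, x = g - g' := ⟨_, rfl⟩
      have hxu : x ≫ u' = 0 := by rw [hx, Preadditive.sub_comp, hgg', sub_self]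
      rw [← hx]
      have hcomp : ∀ k : ℕ, x ≫ projAt M ⟨k⟩ = 0 := by
        intro k
        induction k with
        | zero => rw [← hp0, ← Category.assoc, hxu, zero_comp]
        | succ k ih =>
          have := congrArg (x ≫ ·) (hp k)
          simp only [Preadditive.comp_sub, ← Category.assoc, hxu, zero_comp, ih, sub_zero] at this
          exact this.symm
      obtain ⟨F, hF⟩ := hfix x
      rw [← hF, partProj_eq_sum, Preadditive.comp_sum]
      exact Finset.sum_eq_zero fun k _ => by rw [← Category.assoc, hcomp k.down, zero_comp]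
    · have key : ∀ (z : P⟦n⟧ ⟶ G) (k : ℕ), ∃ g : P⟦n⟧ ⟶ ∐ M, g ≫ u' = z ≫ ι k := by
        intro z k
        obtain ⟨N, hN⟩ := h n z
        refine ⟨∑ m ∈ Finset.range N, z ≫ (mu (r ^ m : Coh.Γtop X)).app G ≫ ι (k + m), ?_⟩
        rw [Preadditive.sum_comp]
        simp only [Category.assoc, hu, Preadditive.comp_sub]
        have e : ∀ m, z ≫ (mu (r ^ m : Coh.Γtop X)).app G ≫ μ ≫ ι (k + m + 1) =
            z ≫ (mu (r ^ (m + 1) : Coh.Γtop X)).app G ≫ ι (k + (m + 1)) := fun m => by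
          rw [← Category.assoc ((mu (r ^ m : Coh.Γtop X)).app G) μ, hpow, Nat.add_assoc]
        simp only [e]
        rw [Finset.sum_range_sub' (fun m => z ≫ (mu (r ^ m : Coh.Γtop X)).app G ≫ ι (k + m)) N,
          ← Category.assoc z ((mu (r ^ N : Coh.Γtop X)).app G), hN, zero_comp, sub_zero, pow_zero, mu_one]
        simp
      obtain ⟨F, hF⟩ := hfix y
      choose g hg using key
      refine ⟨∑ k ∈ F, g (y ≫ projAt M k) k.down, ?_⟩
      show (∑ k ∈ F, g (y ≫ projAt M k) k.down) ≫ u' = y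
      rw [Preadditive.sum_comp]
      simp only [hg]
      refine Eq.trans ?_ hF
      rw [partProj_eq_sum, Preadditive.comp_sum]
      exact Finset.sum_congr rfl fun k _ => Category.assoc _ _ _
  obtain ⟨s, hs⟩ : ∃ s : Coh.Γtop U, s * (show Coh.Γtop U from j.appTop r) = 1 :=
    IsUnit.exists_left_inv hr
  let η := (adjR j).unit.app G
  let E : ∐ M ⟶ (DCoh.Rpush j).obj ((rho j).obj G) := Sigma.desc fun m =>
    η ≫ (DCoh.Rpush j).map ((mu (s ^ m.down : Coh.Γtop U)).app ((rho j).obj G))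
  have hE : u' ≫ E = 0 := by
    refine Sigma.hom_ext _ _ fun m => ?_
    obtain ⟨m⟩ := m
    change ι m ≫ u' ≫ E = ι m ≫ 0
    rw [← Category.assoc, hu, Preadditive.sub_comp, Category.assoc, comp_zero, sub_eq_zero]
    simp only [ι, E, Sigma.ι_desc]
    have hη : μ ≫ η = η ≫ (DCoh.Rpush j).map ((mu (j.appTop r)).app ((rho j).obj G)) := by
      rw [← rho_mu]
      exact ((adjR j).unit.naturality μ)
    rw [← Category.assoc μ η, hη, Category.assoc, ← Functor.map_comp]
    refine congrArg (fun t => η ≫ (DCoh.Rpush j).map t) ?_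
    rw [← NatTrans.comp_app, ← mu_mul]
    refine congrArg (fun c : Coh.Γtop U => (mu c).app ((rho j).obj G)) ?_
    rw [pow_succ, mul_assoc, hs, mul_one]
  have hE0 : E = 0 := (cancel_epi u').1 (hE.trans comp_zero.symm)
  have hη0 : η = 0 := by
    have := congrArg (ι 0 ≫ ·) hE0
    simpa [ι, E, pow_zero, mu_one] using this
  have h2 : (rho j).map η = 0 := by rw [hη0, Functor.map_zero]
  haveI := isIso_rho_unit j G
  rw [IsZero.iff_id_eq_zero, ← cancel_mono ((rho j).map η), Category.id_comp, zero_comp]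
  exact h2

/-- If all maps from perfect objects into `G` are killed by powers of `r`, then `G` vanishes where
`r` is invertible. -/
theorem isZero_rho_of_tors [CompactSpace X] [QuasiSeparatedSpace X] (j : U ⟶ X) [IsOpenImmersion j]
    {G : DCoh.D X} (hG : DCoh.IsQCohD G) (r : Coh.Γtop X) (hr : IsUnit (j.appTop r))
    (h : ∀ P : DCoh.D X, DCoh.IsPerfect P → ∀ y : P ⟶ G, ∃ N : ℕ,
      y ≫ (mu (r ^ N : Coh.Γtop X)).app G = 0) :
    IsZero ((rho j).obj G) := by
  obtain ⟨P, hP, -, hdet⟩ := hasGen (X := X) Set.univ isClosed_univ (by simp)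
  exact isZero_rho_of_tors_gen j hP (fun A hA => hdet A hA (supp_univ A)) hG r hr
    fun n y => h _ (isPerfect_shift' hP n) y

end Groth.Agent.ShriekSupp7
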