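import Groth.Agent.ShriekSupp7.Main
import Groth.Agent.ShriekSupp7.Perfect

/-!
# Supports for unbounded objects, when `Rf_*` preserves perfect objects
-/

set_option linter.style.haveILetI false
set_option backward.isDefEq.respectTransparency false
set_option backward.isDefEq.respectTransparency.types false

universe u

open CategoryTheory CategoryTheory.Limits AlgebraicGeometry Pretriangulated CategoryTheory.Triangulated

attribute [local instance] HasDerivedCategory.standard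

namespace Groth.Agent.ShriekSupp7

open Groth.Agent.KFlatLib Groth.Agent.PerfGen7

variable {X Y : Scheme.{u}}

/-- Direct images of perfect objects are perfect over every affine open. -/
def RpushPerfect (f : X ⟶ Y) : Prop :=
  ∀ (W : Y.Opens), IsAffineOpen W → ∀ [DCoh.HasRpush (f ∣_ W)] (P : DCoh.D (f ⁻¹ᵁ W).toScheme),
    DCoh.IsPerfect P → DCoh.IsPerfect ((DCoh.Rpush (f ∣_ W)).obj P)

/-- Quasi-compact opens of quasi-separated schemes. -/
theorem quasiCompact_ι [QuasiSeparatedSpace X] (U : X.Opens) [hUc : CompactSpace U] : QuasiCompact U.ι := by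
  rw [quasiCompact_iff]
  intro V hV hVc
  rw [U.ι.isOpenEmbedding.isInducing.isCompact_iff, Set.image_preimage_eq_inter_range,
    Scheme.Opens.range_ι]
  exact QuasiSeparatedSpace.inter_isCompact _ _ hV hVc U.isOpen (isCompact_iff_compactSpace.2 hUc)

/-- On an affine scheme, a map from a perfect object to one supported off `D(r)` is killed. -/
theorem exists_mu_kill_perfect {U : Scheme.{u}} [IsAffine U] {L Q : DCoh.D U}
    (hL : DCoh.IsPerfect L) (hQ : DCoh.IsQCohD Q) (r : Coh.Γtop U)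
    (hs : Supp Q ((U.basicOpen r : Set U)ᶜ)) (g : L ⟶ Q) :
    ∃ n : ℕ, (mu (r ^ n : Coh.Γtop U)).app L ≫ g = 0 := by
  let R := Γ(U, ⊤)
  haveI := preservesFiniteLimits_tilde_of R
  let j : Spec R ⟶ U := U.isoSpec.inv
  haveI := hasRpush_scheme j
  have hj' : j.appTop = (Scheme.ΓSpecIso R).inv := by
    have h1 : j.appTop ≫ U.isoSpec.hom.appTop = 𝟙 _ := by
      rw [← Scheme.Hom.comp_appTop, Iso.hom_inv_id, Scheme.Hom.id_appTop]
    have h2 : U.isoSpec.hom.appTop = (Scheme.ΓSpecIso R).hom := Scheme.toSpecΓ_appTop U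
    rw [h2] at h1
    exact (Iso.comp_hom_eq_id _).1 h1
  let r₀ : R := r
  have hj : ∀ t : R, j.appTop t = (Scheme.ΓSpecIso R).inv t := fun t => by rw [hj']
  have hpre : j.base ⁻¹' ((U.basicOpen r : Set U)ᶜ) = PrimeSpectrum.zeroLocus {r₀} := by
    have h1 : ⇑j.base ⁻¹' (U.basicOpen r₀ : Set U) = ((Spec R).basicOpen (j.appTop r₀) : Set (Spec R)) :=
      congrArg (fun W : (Spec R).Opens => (W : Set (Spec R))) (Scheme.preimage_basicOpen_top j r₀)
    rw [hj, basicOpen_eq_of_affine] at h1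
    rw [Set.preimage_compl]
    refine (congrArg compl h1).trans ?_
    rw [PrimeSpectrum.basicOpen_eq_zeroLocus_compl]
    exact compl_compl _
  have hLp : DCoh.IsPerfect ((rho j).obj L) := isPerfect_rho' j hL
  obtain ⟨L₀, ⟨eL⟩⟩ := exists_tildeD_iso (PerfGen7.isQCohD_of_isPerfect hLp)
  obtain ⟨Q₀, ⟨eQ⟩⟩ := exists_tildeD_iso (KFlatLib.isQCohD_rho j hQ)
  have htors : Tors r₀ Q₀ := by
    refine (supp_tilde_iff Q₀ {r₀}).1 ?_ r₀ (Finset.mem_singleton_self r₀)
    rw [Finset.coe_singleton]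
    exact (hpre ▸ hs.rho j).of_iso eQ.symm
  obtain ⟨g₀, hg₀⟩ := (tildeD_map_bijective L₀ Q₀).2 (eL.hom ≫ (rho j).map g ≫ eQ.inv)
  obtain ⟨n, hn⟩ := hom_tors ((isPerfect_tilde_iff' L₀).1 (isPerfect_of_iso' eL.symm hLp)) htors g₀
  have hk : (mu (X := Spec R) ((Scheme.ΓSpecIso R).inv (r₀ ^ n))).app ((rho j).obj L) ≫ (rho j).map g = 0 := by
    refine (cancel_epi eL.hom).1 ((cancel_mono eQ.inv).1 ?_)
    rw [comp_zero, zero_comp, ← Category.assoc eL.hom, ← mu_comm, ← tildeD_map_smul]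
    simp only [Category.assoc]
    rw [← hg₀, ← Functor.map_comp, Linear.smul_comp, Category.id_comp, hn, Functor.map_zero]
  refine ⟨n, ?_⟩
  have h0 : (rho j).map ((mu (r ^ n : Coh.Γtop U)).app L ≫ g) = 0 := by
    rw [Functor.map_comp, rho_mu]
    rw [show j.appTop (r ^ n : Coh.Γtop U) = (Scheme.ΓSpecIso R).inv (r₀ ^ n) from hj (r₀ ^ n)]
    exact hk
  haveI := isIso_unit_of_surjective j (fun x => ⟨U.isoSpec.hom x, (Scheme.Hom.comp_apply _ _ _).symm.trans
    (congrArg (fun φ : U ⟶ U => φ x) U.isoSpec.hom_inv_id)⟩) Q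
  refine (cancel_mono ((adjR j).unit.app Q)).1 ?_
  rw [zero_comp]
  refine ((adjR j).unit.naturality _).trans ?_
  rw [Functor.comp_map, h0, Functor.map_zero, comp_zero]

/-- **Supports, affine base, unbounded.** -/
theorem supp_affine_perfect [IsAffine Y] (f : X ⟶ Y) [IsProper f] [DCoh.HasRpush f]
    (h : DCoh.RpushPreservesQCoh f) {a : DCoh.DQCoh Y ⥤ DCoh.DQCoh X} (adj : DCoh.RpushQ f h ⊣ a)
    (hperf : ∀ P : DCoh.D X, DCoh.IsPerfect P → DCoh.IsPerfect ((DCoh.Rpush f).obj P))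
    (r : Coh.Γtop Y) (Q : DCoh.DQCoh Y) (hs : Supp Q.obj ((Y.basicOpen r : Set Y)ᶜ)) :
    Supp (a.obj Q).obj ((f ⁻¹ᵁ Y.basicOpen r : Set X)ᶜ) := by
  haveI : CompactSpace X := QuasiCompact.compactSpace_of_compactSpace f
  haveI : QuasiSeparatedSpace X := quasiSeparatedSpace_of_quasiSeparated f
  have hW : (Set.range (f ⁻¹ᵁ Y.basicOpen r).ι.base)ᶜ = ((f ⁻¹ᵁ Y.basicOpen r : Set X)ᶜ) := by
    rw [Scheme.Opens.range_ι]
  rw [← hW, ← isZero_rho_iff]
  refine isZero_rho_of_tors _ (a.obj Q).property (f.appTop r) ?_ fun P hP y => ?_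
  · refine (f ⁻¹ᵁ Y.basicOpen r).toScheme.toLocallyRingedSpace.toRingedSpace.isUnit_of_isUnit_germ
      ⊤ _ fun x hx => ?_
    refine ((f ⁻¹ᵁ Y.basicOpen r).toScheme.mem_basicOpen _ x hx).1 ?_
    rw [← Scheme.preimage_basicOpen_top, ← Scheme.preimage_basicOpen_top]
    exact x.2
  let P' : DCoh.DQCoh X := ⟨P, PerfGen7.isQCohD_of_isPerfect hP⟩
  let ψ : P' ⟶ a.obj Q := ObjectProperty.homMk y
  let g := (adj.homEquiv P' Q).symm ψ
  obtain ⟨n, hn⟩ := exists_mu_kill_perfect (hperf P hP) Q.property r hs g.hom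
  refine ⟨n, ?_⟩
  let m : P' ⟶ P' := ObjectProperty.homMk ((mu (f.appTop (r ^ n : Coh.Γtop Y))).app P)
  have hm : m ≫ ψ = 0 := by
    refine (adj.homEquiv P' Q).symm.injective ?_
    rw [Adjunction.homEquiv_naturality_left_symm]
    haveI := PerfGen7.rpush_additive f
    haveI : (DCoh.RpushQ f h).Additive :=
      ⟨fun {_ _} {_ _} => ObjectProperty.hom_ext _ ((DCoh.Rpush f).map_add)⟩
    rw [show (adj.homEquiv P' Q).symm 0 = 0 by simp [Adjunction.homEquiv_counit]]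
    refine ObjectProperty.hom_ext _ ?_
    show (DCoh.Rpush f).map ((mu (f.appTop (r ^ n : Coh.Γtop Y))).app P) ≫ g.hom = 0
    rw [rpush_mu]
    exact hn
  rw [← mu_comm, show ((f.appTop r) ^ n : Γ(X, ⊤)) = f.appTop (r ^ n : Coh.Γtop Y) from
    (map_pow f.appTop.hom r n).symm]
  exact congrArg (fun t => t.hom) hm

/-- The support statement for an affine open of the base. -/
theorem supp_rightAdjoint_rpush' [CompactSpace Y] [QuasiSeparatedSpace Y] (f : X ⟶ Y) [IsProper f] [DCoh.HasRpush f]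
    (h : DCoh.RpushPreservesQCoh f) {a : DCoh.DQCoh Y ⥤ DCoh.DQCoh X} (adj : DCoh.RpushQ f h ⊣ a)
    (V : Y.Opens) (W : Y.Opens) (hW : IsAffineOpen W)
    [DCoh.HasRpush W.ι] (hj : DCoh.RpushPreservesQCoh W.ι)
    (hperf : RpushPerfect f) (G : DCoh.DQCoh W.toScheme) (hG : Supp G.obj (W.ι.base ⁻¹' (V : Set Y)ᶜ)) :
    Supp (a.obj ((DCoh.RpushQ W.ι hj).obj G)).obj ((f ⁻¹ᵁ V : Set X)ᶜ) := by
  haveI : CompactSpace X := QuasiCompact.compactSpace_of_compactSpace f
  haveI : QuasiSeparatedSpace X := quasiSeparatedSpace_of_quasiSeparated f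
  haveI : IsAffine W := hW
  haveI : CompactSpace W := isCompact_iff_compactSpace.1 hW.isCompact
  haveI : QuasiSeparatedSpace W.toScheme := W.ι.isOpenEmbedding.quasiSeparatedSpace
  haveI : IsProper (f ∣_ W) := IsZariskiLocalAtTarget.restrict (P := @IsProper) inferInstance W
  haveI : CompactSpace (f ⁻¹ᵁ W : X.Opens) :=
    QuasiCompact.compactSpace_of_compactSpace (X := (f ⁻¹ᵁ W).toScheme) (f ∣_ W)
  haveI := hasRpush_scheme (f ∣_ W)
  haveI := hasRpush_scheme (f ⁻¹ᵁ W).ι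
  have hf : DCoh.RpushPreservesQCoh (f ∣_ W) := fun K hK => KFlatLib.isQCohD_rpush (f ∣_ W) hK
  haveI := quasiCompact_ι (X := X) (f ⁻¹ᵁ W)
  have hj' : DCoh.RpushPreservesQCoh (f ⁻¹ᵁ W).ι :=
    fun K hK => KFlatLib.isQCohD_rpush (f ⁻¹ᵁ W).ι hK
  obtain ⟨aW, adjW, ⟨e⟩⟩ := exists_rightAdjoint_baseChange f h adj W hj hj' hf
  refine Supp.of_iso ((ObjectProperty.ι _).mapIso (e.app G)).symm ?_
  show Supp ((DCoh.Rpush (f ⁻¹ᵁ W).ι).obj (aW.obj G).obj) _
  refine supp_rpush _ (f ⁻¹ᵁ V).isOpen.isClosed_compl (supp_iff.2 fun x hx i => ?_)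
  have hfx : (f ∣_ W) x ∈ W.ι ⁻¹ᵁ V := by
    show W.ι ((f ∣_ W) x) ∈ V
    rw [← Scheme.Hom.comp_apply, morphismRestrict_ι, Scheme.Hom.comp_apply]
    exact not_not.1 hx
  obtain ⟨r, hr, hxr⟩ := (isAffineOpen_top W.toScheme).exists_basicOpen_le
    (V := W.ι ⁻¹ᵁ V) ⟨(f ∣_ W) x, hfx⟩ trivial
  refine supp_iff.1 (supp_affine_perfect (f ∣_ W) hf adjW (fun P hP => hperf W hW P hP) r G (hG.mono fun y hy hyr => hy (hr hyr))) x
    (fun hxr' => hxr' hxr) i

/-- **`a` preserves supports.** -/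
theorem supp_rightAdjoint' [CompactSpace Y] [QuasiSeparatedSpace Y] (f : X ⟶ Y) [IsProper f] [DCoh.HasRpush f]
    (h : DCoh.RpushPreservesQCoh f) {a : DCoh.DQCoh Y ⥤ DCoh.DQCoh X} (adj : DCoh.RpushQ f h ⊣ a)
    (hperf : RpushPerfect f) (V : Y.Opens) (Q : DCoh.DQCoh Y) (hQ : Supp Q.obj ((V : Set Y)ᶜ)) :
    Supp (a.obj Q).obj ((f ⁻¹ᵁ V : Set X)ᶜ) := by
  classical
  obtain ⟨s, hs⟩ := isCompact_univ.elim_finite_subcover (fun W : Y.affineOpens => (W.1 : Set Y))
    (fun W => W.1.isOpen) (fun y _ => by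
      obtain ⟨_, ⟨W, hW, rfl⟩, hyW, -⟩ :=
        Y.isBasis_affineOpens.exists_subset_of_mem_open (Set.mem_univ y) isOpen_univ
      exact Set.mem_iUnion.2 ⟨⟨W, hW⟩, hyW⟩)
  suffices H : ∀ (s : Finset Y.affineOpens) (Q : DCoh.DQCoh Y),
      ∀ S : Set Y, IsClosed S → S ⊆ (V : Set Y)ᶜ → S ⊆ ⋃ W ∈ s, (W.1 : Set Y) → Supp Q.obj S →
      Supp (a.obj Q).obj ((f ⁻¹ᵁ V : Set X)ᶜ) from
    H s Q _ V.isOpen.isClosed_compl subset_rfl (fun y _ => hs trivial) hQ
  intro s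
  induction s using Finset.induction_on with
  | empty =>
    intro Q S _ _ hS hQS
    have hz : IsZero Q.obj := isZero_of_supp_empty (hQS.mono (by simpa using hS))
    haveI := PerfGen7.rpush_additive f
    haveI : (DCoh.RpushQ f h).Additive :=
      ⟨fun {_ _} {_ _} => ObjectProperty.hom_ext _ ((DCoh.Rpush f).map_add)⟩
    haveI : a.Additive := adj.right_adjoint_additive
    have hz' : IsZero Q := (IsZero.iff_id_eq_zero Q).2 (ObjectProperty.hom_ext _ (hz.eq_of_src _ _))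
    exact supp_of_isZero (Functor.map_isZero (ObjectProperty.ι _) (a.map_isZero hz')) _
  | insert W s _ ih =>
    intro Q S hSc hSV hS hQS
    haveI := hasRpush_scheme W.1.ι
    haveI : CompactSpace W.1 := isCompact_iff_compactSpace.1 W.2.isCompact
    haveI : QuasiSeparatedSpace W.1.toScheme := W.1.ι.isOpenEmbedding.quasiSeparatedSpace
    haveI := quasiCompact_ι (X := Y) W.1
    have hj : DCoh.RpushPreservesQCoh W.1.ι := fun K hK => KFlatLib.isQCohD_rpush W.1.ι hK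
    obtain ⟨C, g, d, hT, hC⟩ := exists_unit_triangle W.1.ι Q.obj
    let G : DCoh.DQCoh W.1.toScheme := (restrictQ W.1.ι).obj Q
    let R : DCoh.DQCoh Y := (DCoh.RpushQ W.1.ι hj).obj G
    have hGS : Supp G.obj (W.1.ι.base ⁻¹' S) := hQS.rho W.1.ι
    have hRS : Supp R.obj S := supp_rpush W.1.ι hSc hGS
    have hCS : Supp C (S ∩ (W.1 : Set Y)ᶜ) := supp_iff.2 fun y hy i => by
      by_cases hyW : y ∈ (W.1 : Set Y)
      · exact supp_iff.1 hC y (fun hn => hn (by rw [Scheme.Opens.range_ι]; exact hyW)) i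
      · exact supp_iff.1 (supp_obj₃ hT hQS hRS) y (fun hn => hy ⟨hn, hyW⟩) i
    have hCq : DCoh.IsQCohD C := KFlatLib.isQCohD_obj₃ hT Q.property R.property
    let C' : DCoh.DQCoh Y := ⟨C⟦(-1 : ℤ)⟧, isQCohD_shift hCq (-1)⟩
    have hC'supp : Supp (a.obj C').obj ((f ⁻¹ᵁ V : Set X)ᶜ) := by
      refine ih C' (S ∩ (W.1 : Set Y)ᶜ) (hSc.inter W.1.isOpen.isClosed_compl)
        (Set.inter_subset_left.trans hSV) (fun y hy => ?_) (hCS.shift (-1))
      have := hS hy.1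
      simp only [Finset.set_biUnion_insert, Set.mem_union] at this
      exact this.resolve_left hy.2
    have hRsupp : Supp (a.obj R).obj ((f ⁻¹ᵁ V : Set X)ᶜ) :=
      supp_rightAdjoint_rpush' f h adj V W.1 W.2 hj hperf G (hGS.mono (Set.preimage_mono hSV))
    have hT' := inv_rot_of_distTriang _ hT
    exact supp_middle f h adj C' Q R (ObjectProperty.homMk (Triangle.mk _ g d).invRotate.mor₁)
      (ObjectProperty.homMk ((adjR W.1.ι).unit.app Q.obj)) _ hT' hC'supp hRsupp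

end Groth.Agent.ShriekSupp7
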