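import Groth.Agent.ShriekSupp7.Unbounded

/-!
# Supports when `a` preserves coproducts, any quasi-compact quasi-separated morphism
-/

set_option linter.style.haveILetI false
set_option backward.isDefEq.respectTransparency false
set_option backward.isDefEq.respectTransparency.types false

universe u

open CategoryTheory CategoryTheory.Limits AlgebraicGeometry Pretriangulated CategoryTheory.Triangulated

attribute [local instance] HasDerivedCategory.standard

namespace Groth.Agent.ShriekSupp7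

open Groth.Agent.KFlatLib Groth.Agent.PerfGen7

variable {X Y : Scheme.{u}}

/-- Over every affine open, a detecting perfect object has perfect direct image. -/
def RpushGen (f : X ⟶ Y) : Prop :=
  ∀ (W : Y.Opens), IsAffineOpen W → ∀ [DCoh.HasRpush (f ∣_ W)],
    ∃ P : DCoh.D (f ⁻¹ᵁ W).toScheme, DCoh.IsPerfect P ∧
      (∀ A : DCoh.D (f ⁻¹ᵁ W).toScheme, DCoh.IsQCohD A →
        (∀ (n : ℤ) (φ : P⟦n⟧ ⟶ A), φ = 0) → IsZero A) ∧
      ∀ n : ℤ, DCoh.IsPerfect ((DCoh.Rpush (f ∣_ W)).obj (P⟦n⟧))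

/-- **Supports, affine base, unbounded.** -/
theorem supp_affine_gen [IsAffine Y] (f : X ⟶ Y) [QuasiCompact f] [QuasiSeparated f] [DCoh.HasRpush f]
    (h : DCoh.RpushPreservesQCoh f) {a : DCoh.DQCoh Y ⥤ DCoh.DQCoh X} (adj : DCoh.RpushQ f h ⊣ a)
    {P₀ : DCoh.D X} (hP₀ : DCoh.IsPerfect P₀)
    (hdet : ∀ A : DCoh.D X, DCoh.IsQCohD A → (∀ (n : ℤ) (φ : P₀⟦n⟧ ⟶ A), φ = 0) → IsZero A)
    (hperf : ∀ n : ℤ, DCoh.IsPerfect ((DCoh.Rpush f).obj (P₀⟦n⟧)))
    (r : Coh.Γtop Y) (Q : DCoh.DQCoh Y) (hs : Supp Q.obj ((Y.basicOpen r : Set Y)ᶜ)) :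
    Supp (a.obj Q).obj ((f ⁻¹ᵁ Y.basicOpen r : Set X)ᶜ) := by
  haveI : CompactSpace X := QuasiCompact.compactSpace_of_compactSpace f
  haveI : QuasiSeparatedSpace X := quasiSeparatedSpace_of_quasiSeparated f
  have hW : (Set.range (f ⁻¹ᵁ Y.basicOpen r).ι.base)ᶜ = ((f ⁻¹ᵁ Y.basicOpen r : Set X)ᶜ) := by
    rw [Scheme.Opens.range_ι]
  rw [← hW, ← isZero_rho_iff]
  refine isZero_rho_of_tors_gen _ hP₀ hdet (a.obj Q).property (f.appTop r) ?_ fun k y => ?_
  · refine (f ⁻¹ᵁ Y.basicOpen r).toScheme.toLocallyRingedSpace.toRingedSpace.isUnit_of_isUnit_germ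
      ⊤ _ fun x hx => ?_
    refine ((f ⁻¹ᵁ Y.basicOpen r).toScheme.mem_basicOpen _ x hx).1 ?_
    rw [← Scheme.preimage_basicOpen_top, ← Scheme.preimage_basicOpen_top]
    exact x.2
  let P := P₀⟦k⟧
  have hP : DCoh.IsPerfect P := isPerfect_shift' hP₀ k
  let P' : DCoh.DQCoh X := ⟨P, PerfGen7.isQCohD_of_isPerfect hP⟩
  let ψ : P' ⟶ a.obj Q := ObjectProperty.homMk y
  let g := (adj.homEquiv P' Q).symm ψ
  obtain ⟨n, hn⟩ := exists_mu_kill_perfect (hperf k) Q.property r hs g.hom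
  refine ⟨n, ?_⟩
  let m : P' ⟶ P' := ObjectProperty.homMk ((mu (f.appTop (r ^ n : Coh.Γtop Y))).app P)
  have hm : m ≫ ψ = 0 := by
    refine (adj.homEquiv P' Q).symm.injective ?_
    rw [Adjunction.homEquiv_naturality_left_symm]
    haveI := PerfGen7.rpush_additive f
    haveI : (DCoh.RpushQ f h).Additive :=
      ⟨fun {_ _} {_ _} => ObjectProperty.hom_ext _ ((DCoh.Rpush f).map_add)⟩
    rw [show (adj.homEquiv P' Q).symm 0 = 0 by simp [Adjunction.homEquiv_counit]]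
    refine ObjectProperty.hom_ext _ ?_
    show (DCoh.Rpush f).map ((mu (f.appTop (r ^ n : Coh.Γtop Y))).app P) ≫ g.hom = 0
    rw [rpush_mu]
    exact hn
  rw [← mu_comm, show ((f.appTop r) ^ n : Γ(X, ⊤)) = f.appTop (r ^ n : Coh.Γtop Y) from
    (map_pow f.appTop.hom r n).symm]
  exact congrArg (fun t => t.hom) hm

/-- The support statement for an affine open of the base. -/
theorem supp_rightAdjoint_rpush_gen [CompactSpace Y] [QuasiSeparatedSpace Y] (f : X ⟶ Y) [QuasiCompact f] [QuasiSeparated f] [DCoh.HasRpush f]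
    (h : DCoh.RpushPreservesQCoh f) {a : DCoh.DQCoh Y ⥤ DCoh.DQCoh X} (adj : DCoh.RpushQ f h ⊣ a)
    (V : Y.Opens) (W : Y.Opens) (hW : IsAffineOpen W)
    [DCoh.HasRpush W.ι] (hj : DCoh.RpushPreservesQCoh W.ι)
    (hperf : RpushGen f) (G : DCoh.DQCoh W.toScheme) (hG : Supp G.obj (W.ι.base ⁻¹' (V : Set Y)ᶜ)) :
    Supp (a.obj ((DCoh.RpushQ W.ι hj).obj G)).obj ((f ⁻¹ᵁ V : Set X)ᶜ) := by
  haveI : CompactSpace X := QuasiCompact.compactSpace_of_compactSpace f
  haveI : QuasiSeparatedSpace X := quasiSeparatedSpace_of_quasiSeparated f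
  haveI : IsAffine W := hW
  haveI : CompactSpace W := isCompact_iff_compactSpace.1 hW.isCompact
  haveI : QuasiSeparatedSpace W.toScheme := W.ι.isOpenEmbedding.quasiSeparatedSpace
  haveI : QuasiCompact (f ∣_ W) := IsZariskiLocalAtTarget.restrict (P := @QuasiCompact) inferInstance W
  haveI : QuasiSeparated (f ∣_ W) := IsZariskiLocalAtTarget.restrict (P := @QuasiSeparated) inferInstance W
  haveI := hasRpush_scheme (f ∣_ W)
  obtain ⟨P₁, hP₁, hdet₁, hperf₁⟩ := hperf W hW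
  haveI : CompactSpace (f ⁻¹ᵁ W : X.Opens) :=
    QuasiCompact.compactSpace_of_compactSpace (X := (f ⁻¹ᵁ W).toScheme) (f ∣_ W)
  haveI := hasRpush_scheme (f ∣_ W)
  haveI := hasRpush_scheme (f ⁻¹ᵁ W).ι
  have hf : DCoh.RpushPreservesQCoh (f ∣_ W) := fun K hK => KFlatLib.isQCohD_rpush (f ∣_ W) hK
  haveI := quasiCompact_ι (X := X) (f ⁻¹ᵁ W)
  have hj' : DCoh.RpushPreservesQCoh (f ⁻¹ᵁ W).ι :=
    fun K hK => KFlatLib.isQCohD_rpush (f ⁻¹ᵁ W).ι hK
  obtain ⟨aW, adjW, ⟨e⟩⟩ := exists_rightAdjoint_baseChange f h adj W hj hj' hf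
  refine Supp.of_iso ((ObjectProperty.ι _).mapIso (e.app G)).symm ?_
  show Supp ((DCoh.Rpush (f ⁻¹ᵁ W).ι).obj (aW.obj G).obj) _
  refine supp_rpush _ (f ⁻¹ᵁ V).isOpen.isClosed_compl (supp_iff.2 fun x hx i => ?_)
  have hfx : (f ∣_ W) x ∈ W.ι ⁻¹ᵁ V := by
    show W.ι ((f ∣_ W) x) ∈ V
    rw [← Scheme.Hom.comp_apply, morphismRestrict_ι, Scheme.Hom.comp_apply]
    exact not_not.1 hx
  obtain ⟨r, hr, hxr⟩ := (isAffineOpen_top W.toScheme).exists_basicOpen_le
    (V := W.ι ⁻¹ᵁ V) ⟨(f ∣_ W) x, hfx⟩ trivial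
  refine supp_iff.1 (supp_affine_gen (f ∣_ W) hf adjW hP₁ hdet₁ hperf₁ r G (hG.mono fun y hy hyr => hy (hr hyr))) x
    (fun hxr' => hxr' hxr) i

/-- **`a` preserves supports.** -/
theorem supp_rightAdjoint_gen [CompactSpace Y] [QuasiSeparatedSpace Y] (f : X ⟶ Y) [QuasiCompact f] [QuasiSeparated f] [DCoh.HasRpush f]
    (h : DCoh.RpushPreservesQCoh f) {a : DCoh.DQCoh Y ⥤ DCoh.DQCoh X} (adj : DCoh.RpushQ f h ⊣ a)
    (hperf : RpushGen f) (V : Y.Opens) (Q : DCoh.DQCoh Y) (hQ : Supp Q.obj ((V : Set Y)ᶜ)) :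
    Supp (a.obj Q).obj ((f ⁻¹ᵁ V : Set X)ᶜ) := by
  classical
  obtain ⟨s, hs⟩ := isCompact_univ.elim_finite_subcover (fun W : Y.affineOpens => (W.1 : Set Y))
    (fun W => W.1.isOpen) (fun y _ => by
      obtain ⟨_, ⟨W, hW, rfl⟩, hyW, -⟩ :=
        Y.isBasis_affineOpens.exists_subset_of_mem_open (Set.mem_univ y) isOpen_univ
      exact Set.mem_iUnion.2 ⟨⟨W, hW⟩, hyW⟩)
  suffices H : ∀ (s : Finset Y.affineOpens) (Q : DCoh.DQCoh Y),
      ∀ S : Set Y, IsClosed S → S ⊆ (V : Set Y)ᶜ → S ⊆ ⋃ W ∈ s, (W.1 : Set Y) → Supp Q.obj S →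
      Supp (a.obj Q).obj ((f ⁻¹ᵁ V : Set X)ᶜ) from
    H s Q _ V.isOpen.isClosed_compl subset_rfl (fun y _ => hs trivial) hQ
  intro s
  induction s using Finset.induction_on with
  | empty =>
    intro Q S _ _ hS hQS
    have hz : IsZero Q.obj := isZero_of_supp_empty (hQS.mono (by simpa using hS))
    haveI := PerfGen7.rpush_additive f
    haveI : (DCoh.RpushQ f h).Additive :=
      ⟨fun {_ _} {_ _} => ObjectProperty.hom_ext _ ((DCoh.Rpush f).map_add)⟩
    haveI : a.Additive := adj.right_adjoint_additive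
    have hz' : IsZero Q := (IsZero.iff_id_eq_zero Q).2 (ObjectProperty.hom_ext _ (hz.eq_of_src _ _))
    exact supp_of_isZero (Functor.map_isZero (ObjectProperty.ι _) (a.map_isZero hz')) _
  | insert W s _ ih =>
    intro Q S hSc hSV hS hQS
    haveI := hasRpush_scheme W.1.ι
    haveI : CompactSpace W.1 := isCompact_iff_compactSpace.1 W.2.isCompact
    haveI : QuasiSeparatedSpace W.1.toScheme := W.1.ι.isOpenEmbedding.quasiSeparatedSpace
    haveI := quasiCompact_ι (X := Y) W.1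
    have hj : DCoh.RpushPreservesQCoh W.1.ι := fun K hK => KFlatLib.isQCohD_rpush W.1.ι hK
    obtain ⟨C, g, d, hT, hC⟩ := exists_unit_triangle W.1.ι Q.obj
    let G : DCoh.DQCoh W.1.toScheme := (restrictQ W.1.ι).obj Q
    let R : DCoh.DQCoh Y := (DCoh.RpushQ W.1.ι hj).obj G
    have hGS : Supp G.obj (W.1.ι.base ⁻¹' S) := hQS.rho W.1.ι
    have hRS : Supp R.obj S := supp_rpush W.1.ι hSc hGS
    have hCS : Supp C (S ∩ (W.1 : Set Y)ᶜ) := supp_iff.2 fun y hy i => by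
      by_cases hyW : y ∈ (W.1 : Set Y)
      · exact supp_iff.1 hC y (fun hn => hn (by rw [Scheme.Opens.range_ι]; exact hyW)) i
      · exact supp_iff.1 (supp_obj₃ hT hQS hRS) y (fun hn => hy ⟨hn, hyW⟩) i
    have hCq : DCoh.IsQCohD C := KFlatLib.isQCohD_obj₃ hT Q.property R.property
    let C' : DCoh.DQCoh Y := ⟨C⟦(-1 : ℤ)⟧, isQCohD_shift hCq (-1)⟩
    have hC'supp : Supp (a.obj C').obj ((f ⁻¹ᵁ V : Set X)ᶜ) := by
      refine ih C' (S ∩ (W.1 : Set Y)ᶜ) (hSc.inter W.1.isOpen.isClosed_compl)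
        (Set.inter_subset_left.trans hSV) (fun y hy => ?_) (hCS.shift (-1))
      have := hS hy.1
      simp only [Finset.set_biUnion_insert, Set.mem_union] at this
      exact this.resolve_left hy.2
    have hRsupp : Supp (a.obj R).obj ((f ⁻¹ᵁ V : Set X)ᶜ) :=
      supp_rightAdjoint_rpush_gen f h adj V W.1 W.2 hj hperf G (hGS.mono (Set.preimage_mono hSV))
    have hT' := inv_rot_of_distTriang _ hT
    exact supp_middle f h adj C' Q R (ObjectProperty.homMk (Triangle.mk _ g d).invRotate.mor₁)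
      (ObjectProperty.homMk ((adjR W.1.ι).unit.app Q.obj)) _ hT' hC'supp hRsupp

/-- A right adjoint preserving coproducts makes `Rf_*` preserve perfect objects. -/
theorem isPerfect_rpush_of_cop [CompactSpace X] [QuasiSeparatedSpace X] [CompactSpace Y]
    [QuasiSeparatedSpace Y] (f : X ⟶ Y) [DCoh.HasRpush f] (h : DCoh.RpushPreservesQCoh f)
    {a : DCoh.DQCoh Y ⥤ DCoh.DQCoh X} (adj : DCoh.RpushQ f h ⊣ a)
    (hcop : ∀ J : Type u, PreservesColimitsOfShape (Discrete J) a)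
    {P : DCoh.D X} (hP : DCoh.IsPerfect P) : DCoh.IsPerfect ((DCoh.Rpush f).obj P) := by
  classical
  haveI : ∀ J : Type u, HasColimitsOfShape (Discrete J) (DCoh.D X) :=
    fun J => TriCat.hasColimitsOfShape_derivedCategory
  haveI : ∀ J : Type u, HasColimitsOfShape (Discrete J) (DCoh.D Y) :=
    fun J => TriCat.hasColimitsOfShape_derivedCategory
  refine PerfGen7.isPerfect_of_compact isClosed_univ (by simp)
    ⟨h P (PerfGen7.isQCohD_of_isPerfect hP), supp_univ _⟩ fun J M _ hM φ => ?_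
  haveI := hcop J
  let P' : DCoh.DQCoh X := ⟨P, PerfGen7.isQCohD_of_isPerfect hP⟩
  let M' : J → DCoh.DQCoh Y := fun j => ⟨M j, (hM j).1⟩
  let S : DCoh.DQCoh Y := ⟨∐ M, KFlatLib.isQCohD_sigma _ fun j => (hM j).1⟩
  let ιY := ObjectProperty.ι (DCoh.IsQCohD (X := Y))
  let ιX := ObjectProperty.ι (DCoh.IsQCohD (X := X))
  let c : Cofan M' := Cofan.mk S fun j => ObjectProperty.homMk (Sigma.ι M j)
  have hc : IsColimit c := by
    refine isColimitOfReflects ιY ((isColimitMapCoconeCofanMkEquiv ιY M' _).symm ?_)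
    exact coproductIsCoproduct M
  let A : J → DCoh.D X := fun j => (a.obj (M' j)).obj
  have hA : ∀ j, DCoh.IsQCohD (A j) := fun j => (a.obj (M' j)).property
  let T : DCoh.DQCoh X := ⟨∐ A, KFlatLib.isQCohD_sigma A hA⟩
  let d : Cofan fun j => a.obj (M' j) := Cofan.mk T fun j => ObjectProperty.homMk (Sigma.ι A j)
  have hd : IsColimit d := by
    refine isColimitOfReflects ιX ((isColimitMapCoconeCofanMkEquiv ιX (fun j => a.obj (M' j)) _).symm ?_)
    exact coproductIsCoproduct A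
  let e := hd.coconePointUniqueUpToIso (isColimitCofanMkObjOfIsColimit a M' _ hc)
  have he : ∀ j, ObjectProperty.homMk (Sigma.ι A j) ≫ e.hom = a.map (ObjectProperty.homMk (Sigma.ι M j)) :=
    fun j => hd.comp_coconePointUniqueUpToIso_hom _ ⟨j⟩
  let φ' : (DCoh.RpushQ f h).obj P' ⟶ S := ObjectProperty.homMk φ
  obtain ⟨F, hF⟩ := (fix_of_isPerfect_qcoh hP A hA).at_zero
    (((adj.homEquiv P' S) φ') ≫ e.inv).hom
  refine ⟨F, ?_⟩
  let ψ : ∀ j, (DCoh.RpushQ f h).obj P' ⟶ M' j := fun j => (adj.homEquiv P' (M' j)).symm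
    (ObjectProperty.homMk ((((adj.homEquiv P' S) φ') ≫ e.inv).hom ≫ projAt A j))
  have hφ : φ' = ∑ j ∈ F, ψ j ≫ ObjectProperty.homMk (Sigma.ι M j) := by
    refine (adj.homEquiv P' S).injective ?_
    haveI := PerfGen7.rpush_additive f
    haveI : (DCoh.RpushQ f h).Additive :=
      ⟨fun {_ _} {_ _} => ObjectProperty.hom_ext _ ((DCoh.Rpush f).map_add)⟩
    haveI : a.Additive := adj.right_adjoint_additive
    rw [← Adjunction.homAddEquiv_apply adj _ _ (∑ j ∈ F, _), map_sum]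
    rw [← cancel_mono e.inv, Preadditive.sum_comp]
    refine ObjectProperty.hom_ext _ ?_
    refine hF.symm.trans ?_
    rw [partProj_eq_sum, Preadditive.comp_sum]
    rw [show ∀ g : J → (P' ⟶ T), (∑ j ∈ F, g j).hom = ∑ j ∈ F, (g j).hom from
      fun g => map_sum (ιX.mapAddHom) g F]
    refine Finset.sum_congr rfl fun j _ => ?_
    simp only [Adjunction.homAddEquiv_apply, adj.homEquiv_naturality_right, ψ, Equiv.apply_symm_apply]
    rw [← he j]
    simp [ιX]
  have h2 : φ = ∑ j ∈ F, (ψ j).hom ≫ Sigma.ι M j := by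
    have := congrArg ιY.map hφ
    rw [Functor.map_sum] at this
    exact this
  conv_lhs => rw [h2]
  conv_rhs => rw [h2]
  rw [Preadditive.sum_comp]
  exact Finset.sum_congr rfl fun j hj => by rw [Category.assoc, ι_partProj_mem M hj]

/-- Over affine opens, a restricted generator has perfect direct image. -/
theorem rpushGen_of_cop [CompactSpace X] [QuasiSeparatedSpace X] [CompactSpace Y]
    [QuasiSeparatedSpace Y] (f : X ⟶ Y) [DCoh.HasRpush f] (h : DCoh.RpushPreservesQCoh f)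
    {a : DCoh.DQCoh Y ⥤ DCoh.DQCoh X} (adj : DCoh.RpushQ f h ⊣ a)
    (hcop : ∀ J : Type u, PreservesColimitsOfShape (Discrete J) a) : RpushGen f := by
  intro W hW _
  obtain ⟨P, hP, -, hdet⟩ := hasGen (X := X) Set.univ isClosed_univ (by simp)
  let j := (f ⁻¹ᵁ W).ι
  haveI : QuasiSeparated f := QuasiSeparated.of_quasiSeparatedSpace f
  haveI : QuasiCompact f := inferInstance
  haveI : CompactSpace (f ⁻¹ᵁ W : X.Opens) :=
    isCompact_iff_compactSpace.1 (f.isCompact_preimage hW.isCompact)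
  haveI := hasRpush_scheme j
  haveI := quasiCompact_ι (X := X) (f ⁻¹ᵁ W)
  refine ⟨(rho j).obj P, isPerfect_rho' j hP, fun A hA hzero => ?_, fun n => ?_⟩
  · have hz := hdet _ (KFlatLib.isQCohD_rpush j hA) (supp_univ _) fun n φ => by
      refine ((adjR j).homEquiv _ _).symm.injective ?_
      have h1 := hzero n ((((rho j).commShiftIso n).app P).inv ≫ ((adjR j).homEquiv _ _).symm φ)
      rw [Adjunction.homEquiv_counit _ _ _ 0, Functor.map_zero, zero_comp]
      exact (cancel_epi (((rho j).commShiftIso n).app P).inv).1 (h1.trans comp_zero.symm)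
    exact ((rho j).map_isZero hz).of_iso ((asIso (adjR j).counit).app A).symm
  · obtain ⟨e⟩ := nonempty_rpush_restrictD_iso f W
    refine isPerfect_of_iso' ((DCoh.Rpush (f ∣_ W)).mapIso (((rho j).commShiftIso n).app P)) ?_
    exact isPerfect_of_iso' (e.app (P⟦n⟧))
      (isPerfect_rho' W.ι (isPerfect_rpush_of_cop f h adj hcop (isPerfect_shift' hP n)))

end Groth.Agent.ShriekSupp7
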