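import Groth.Agent.ShriekSupp7.Scalar
import Groth.Agent.PerfGen7.AffineOpen
import Groth.Agent.KFlatLib.Ring.RHomFinite
import Groth.Agent.KFlatLib.Scheme.CohD
import Groth.Agent.PerfGen7.KoszulOrth

/-!
# Maps from bounded coherent objects to torsion objects on an affine noetherian scheme
-/

set_option linter.style.haveILetI false
set_option backward.isDefEq.respectTransparency false
set_option backward.isDefEq.respectTransparency.types false

universe u

open CategoryTheory CategoryTheory.Limits AlgebraicGeometry Pretriangulated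

attribute [local instance] HasDerivedCategory.standard

namespace Groth.Agent.ShriekSupp7

open Groth.Agent.KFlatLib Groth.Agent.PerfGen7

variable {R : CommRingCat.{u}}

/-- Homotheties on `M^~`. -/
theorem tilde_map_smul (M : ModuleCat.{u} R) (r : R) :
    (tilde.functor R).map (r • 𝟙 M) =
      Formal.smulModΓ ((tilde.functor R).obj M) ((Scheme.ΓSpecIso R).inv r) := by
  apply ((tilde.adjunction (R := R)).homEquiv _ _).injective
  rw [Adjunction.homEquiv_unit, Adjunction.homEquiv_unit]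
  refine ((tilde.adjunction (R := R)).unit.naturality _).symm.trans ?_
  ext m
  exact (((tilde.adjunction (R := R)).unit.app M).hom.map_smul r m).trans rfl

/-- Homotheties on the derived category. -/
theorem tildeD_map_smul [PreservesFiniteLimits (tilde.functor R)] (M : Dual.D R) (r : R) :
    (DCoh.tildeD R).map (r • 𝟙 M) = (mu (X := Spec R) ((Scheme.ΓSpecIso R).inv r)).app ((DCoh.tildeD R).obj M) := by
  let e := DerivedCategory.Q.objObjPreimageIso M
  let K := DerivedCategory.Q.objPreimage M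
  rw [← cancel_epi ((DCoh.tildeD R).map e.hom), ← mu_comm, ← Functor.map_comp, Linear.comp_smul,
    Category.comp_id, show (r • e.hom) = (r • 𝟙 _) ≫ e.hom by rw [Linear.smul_comp, Category.id_comp],
    Functor.map_comp]
  refine congrArg (· ≫ _) ?_
  let F := (tilde.functor R).mapDerivedCategoryFactors
  rw [← cancel_mono (F.hom.app K), mu_comm,
    show r • 𝟙 (DerivedCategory.Q.obj K) = DerivedCategory.Q.map (r • 𝟙 K) by
      rw [Functor.map_smul, CategoryTheory.Functor.map_id]]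
  refine (F.hom.naturality _).trans (congrArg (_ ≫ ·) ?_)
  refine Eq.trans ?_ (mu_Q _ _).symm
  refine congrArg DerivedCategory.Q.map ?_
  ext n : 1
  exact tilde_map_smul _ r

/-- In `D(R)`, a map from a pseudo-coherent object to a bounded below torsion one is killed. -/
theorem exists_smul_eq_zero {L M : Dual.D R} (hL : DRing.IsPseudoCoherent' R L) (c : ℤ) [M.IsGE c]
    {r : R} (hM : Tors r M) (g : L ⟶ M) : ∃ n : ℕ, r ^ n • g = 0 := by
  obtain ⟨T, hT, h₁, h₂, h₃⟩ := exists_perfect_approx hL (c - 1)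
  subst h₂
  obtain ⟨n, hn⟩ := hom_tors h₁ hM (T.mor₁ ≫ g)
  obtain ⟨k, hk⟩ := Triangle.yoneda_exact₂ _ hT (r ^ n • g) (by rw [Linear.comp_smul, hn])
  haveI := h₃
  exact ⟨n, by rw [hk, DerivedCategory.TStructure.t.zero_of_isLE_of_isGE k (c - 1) c (by omega)
    h₃ inferInstance, comp_zero]⟩

/-- On `Spec R`, a map from a bounded coherent object to one supported in `V(r)` is killed. -/
theorem exists_mu_kill_spec [IsNoetherianRing R] {L Q : DCoh.D (Spec R)} (hL : ∀ i, Coh.IsCoh (DCoh.HD L i))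
    (hLq : DCoh.IsQCohD L) (b : ℤ) [L.IsLE b] (hQ : DCoh.IsQCohD Q) (c : ℤ) [Q.IsGE c] (r : R)
    (hs : Supp Q (PrimeSpectrum.zeroLocus {r})) (g : L ⟶ Q) :
    ∃ n : ℕ, (mu (X := Spec R) ((Scheme.ΓSpecIso R).inv (r ^ n))).app L ≫ g = 0 := by
  obtain ⟨L₀, ⟨eL⟩⟩ := exists_tildeD_iso hLq
  obtain ⟨Q₀, ⟨eQ⟩⟩ := exists_tildeD_iso hQ
  let H := DerivedCategory.homologyFunctor (ModuleCat.{u} R)
  let eH : ∀ (M₀ : Dual.D R) (M : DCoh.D (Spec R)), ((DCoh.tildeD R).obj M₀ ≅ M) → ∀ i,
      (tilde.functor R).obj ((H i).obj M₀) ≅ DCoh.HD M i := fun M₀ M e i =>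
    ((mapDCHomologyIso (tilde.functor R) i).app M₀).symm ≪≫
      (DerivedCategory.homologyFunctor _ i).mapIso e
  have hz : ∀ (M₀ : Dual.D R) (M : DCoh.D (Spec R)), ((DCoh.tildeD R).obj M₀ ≅ M) → ∀ i,
      IsZero (DCoh.HD M i) → IsZero ((H i).obj M₀) := fun M₀ M e i hi =>
    (IsZero.iff_id_eq_zero _).2 ((tilde.functor R).map_injective
      (IsZero.eq_of_src (hi.of_iso (eH M₀ M e i)) _ _))
  have hpc : DRing.IsPseudoCoherent' R L₀ := (H9Misc.DRingPC.pc'_iff L₀).2 fun m =>
    (Groth.Agent.S6942.result R m L₀ R).1.2 ⟨⟨b, fun i hi => ModuleCat.subsingleton_of_isZero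
        (hz L₀ L eL i (DerivedCategory.isZero_of_isLE L b i hi))⟩,
      fun i _ => (isCoh_tilde_iff _).1 (isCoh_of_iso (eH L₀ L eL i).symm (hL i))⟩
  haveI : Q₀.IsGE c := (DerivedCategory.isGE_iff _ _).2 fun i hi =>
    hz Q₀ Q eQ i (DerivedCategory.isZero_of_isGE Q c i hi)
  have htors : Tors r Q₀ := by
    refine (supp_tilde_iff Q₀ {r}).1 ?_ r (Finset.mem_singleton_self r)
    rw [Finset.coe_singleton]
    exact hs.of_iso eQ.symm
  obtain ⟨g₀, hg₀⟩ := (tildeD_map_bijective L₀ Q₀).2 (eL.hom ≫ g ≫ eQ.inv)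
  obtain ⟨n, hn⟩ := exists_smul_eq_zero hpc c htors g₀
  refine ⟨n, (cancel_epi eL.hom).1 ((cancel_mono eQ.inv).1 ?_)⟩
  rw [comp_zero, zero_comp, ← Category.assoc eL.hom, ← mu_comm, ← tildeD_map_smul]
  simp only [Category.assoc]
  rw [← hg₀, ← Functor.map_comp, Linear.smul_comp, Category.id_comp, hn, Functor.map_zero]

/-- On an affine noetherian scheme, a map from a bounded coherent object to one supported off
`D(r)` is killed by a power of `r`. -/
theorem exists_mu_kill {U : Scheme.{u}} [IsAffine U] [IsLocallyNoetherian U] {L Q : DCoh.D U}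
    (hL : ∀ i, Coh.IsCoh (DCoh.HD L i)) (hLq : DCoh.IsQCohD L) (b : ℤ) [L.IsLE b]
    (hQ : DCoh.IsQCohD Q) (c : ℤ) [Q.IsGE c] (r : Coh.Γtop U)
    (hs : Supp Q ((U.basicOpen r : Set U)ᶜ)) (g : L ⟶ Q) :
    ∃ n : ℕ, (mu (r ^ n : Coh.Γtop U)).app L ≫ g = 0 := by
  let R := Γ(U, ⊤)
  haveI : IsNoetherianRing R := QCoh.noetherian_sections ⟨⊤, isAffineOpen_top U⟩
  haveI := preservesFiniteLimits_tilde_of R
  let j : Spec R ⟶ U := U.isoSpec.inv
  haveI := hasRpush_scheme j
  have hLE : ((rho j).obj L).IsLE b := (DerivedCategory.isLE_iff _ _).2 fun i hi =>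
    (Functor.map_isZero (Scheme.Modules.restrictFunctor j) (DerivedCategory.isZero_of_isLE L b i hi)).of_iso
      (restrictHDIso j L i)
  have hGE : ((rho j).obj Q).IsGE c := (DerivedCategory.isGE_iff _ _).2 fun i hi =>
    (Functor.map_isZero (Scheme.Modules.restrictFunctor j) (DerivedCategory.isZero_of_isGE Q c i hi)).of_iso
      (restrictHDIso j Q i)
  have hj' : j.appTop = (Scheme.ΓSpecIso R).inv := by
    have h1 : j.appTop ≫ U.isoSpec.hom.appTop = 𝟙 _ := by
      rw [← Scheme.Hom.comp_appTop, Iso.hom_inv_id, Scheme.Hom.id_appTop]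
    have h2 : U.isoSpec.hom.appTop = (Scheme.ΓSpecIso R).hom := Scheme.toSpecΓ_appTop U
    rw [h2] at h1
    exact (Iso.comp_hom_eq_id _).1 h1
  let r₀ : R := r
  have hj : ∀ t : R, j.appTop t = (Scheme.ΓSpecIso R).inv t := fun t => by rw [hj']
  have hpre : j.base ⁻¹' ((U.basicOpen r : Set U)ᶜ) = PrimeSpectrum.zeroLocus {r₀} := by
    have h1 : ⇑j.base ⁻¹' (U.basicOpen r₀ : Set U) = ((Spec R).basicOpen (j.appTop r₀) : Set (Spec R)) :=
      congrArg (fun W : (Spec R).Opens => (W : Set (Spec R))) (Scheme.preimage_basicOpen_top j r₀)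
    rw [hj, basicOpen_eq_of_affine] at h1
    rw [Set.preimage_compl]
    refine (congrArg compl h1).trans ?_
    rw [PrimeSpectrum.basicOpen_eq_zeroLocus_compl]
    exact compl_compl _
  obtain ⟨n, hn⟩ := exists_mu_kill_spec (fun i => isCohD_rho j hL i) (KFlatLib.isQCohD_rho j hLq) b
    (KFlatLib.isQCohD_rho j hQ) c r₀ (hpre ▸ hs.rho j) ((rho j).map g)
  refine ⟨n, ?_⟩
  have h0 : (rho j).map ((mu (r ^ n : Coh.Γtop U)).app L ≫ g) = 0 := by
    rw [Functor.map_comp, rho_mu]
    rw [show j.appTop (r ^ n : Coh.Γtop U) = (Scheme.ΓSpecIso R).inv (r₀ ^ n) from hj (r₀ ^ n)]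
    exact hn
  haveI := isIso_unit_of_surjective j (fun x => ⟨U.isoSpec.hom x, (Scheme.Hom.comp_apply _ _ _).symm.trans (congrArg (fun φ : U ⟶ U => φ x) U.isoSpec.hom_inv_id)⟩) Q
  refine (cancel_mono ((adjR j).unit.app Q)).1 ?_
  rw [zero_comp]
  refine ((adjR j).unit.naturality _).trans ?_
  rw [Functor.comp_map, h0, Functor.map_zero, comp_zero]

end Groth.Agent.ShriekSupp7
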