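import Groth.Agent.PerfGen7.BrownDQCoh
import Groth.Agent.PerfGen7.Supp
import Groth.Prelude.Def_DDual2

/-!
# A right adjoint of `Rf_*` on quasi-coherent objects: middle terms of triangles and supports
-/

set_option linter.style.haveILetI false
set_option backward.isDefEq.respectTransparency false

universe u

open CategoryTheory CategoryTheory.Limits AlgebraicGeometry Pretriangulated

attribute [local instance] HasDerivedCategory.standard

namespace Groth.Agent.ShriekSupp7

open Groth.Agent.KFlatLib Groth.Agent.PerfGen7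

variable {X Y : Scheme.{u}}

/-- If the outer objects of a triangle go to objects supported in `S`, so does the middle one. -/
theorem supp_middle (f : X ⟶ Y) [DCoh.HasRpush f] (h : DCoh.RpushPreservesQCoh f)
    {a : DCoh.DQCoh Y ⥤ DCoh.DQCoh X} (adj : DCoh.RpushQ f h ⊣ a)
    (A B C : DCoh.DQCoh Y) (α : A ⟶ B) (β : B ⟶ C) (δ : C.obj ⟶ A.obj⟦(1 : ℤ)⟧)
    (hT : Triangle.mk α.hom β.hom δ ∈ distTriang _) {S : Set X}
    (hA : Supp (a.obj A).obj S) (hC : Supp (a.obj C).obj S) : Supp (a.obj B).obj S := by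
  obtain ⟨L, l, d, hL⟩ := distinguished_cocone_triangle₁ (a.map β).hom
  have hLq : DCoh.IsQCohD L :=
    (DCoh.IsQCohD (X := X)).ext_of_isTriangulatedClosed₁ _ hL (a.obj B).property (a.obj C).property
  let L' : DCoh.DQCoh X := ⟨L, hLq⟩
  let l' : L' ⟶ a.obj B := ObjectProperty.homMk l
  have hl0 : l' ≫ a.map β = 0 := ObjectProperty.hom_ext _ (comp_distTriang_mor_zero₁₂ _ hL)
  let ψ := (adj.homEquiv L' B).symm l'
  have hψ : ψ ≫ β = 0 := by
    rw [show ψ ≫ β = (adj.homEquiv L' C).symm (l' ≫ a.map β) from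
      (adj.homEquiv_naturality_right_symm l' β).symm, hl0]
    haveI := PerfGen7.rpush_additive f
    haveI : (DCoh.RpushQ f h).Additive := ⟨fun {_ _} {_ _} => ObjectProperty.hom_ext _ ((DCoh.Rpush f).map_add)⟩
    simp [Adjunction.homEquiv_counit]
  obtain ⟨k, hk⟩ := Triangle.coyoneda_exact₂ _ hT ψ.hom (congrArg (fun t => t.hom) hψ)
  let k' : (DCoh.RpushQ f h).obj L' ⟶ A := ObjectProperty.homMk k
  have hfac : l' = (adj.homEquiv L' A) k' ≫ a.map α := by
    rw [← adj.homEquiv_naturality_right,
      show k' ≫ α = ψ from (ObjectProperty.hom_ext _ hk).symm]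
    exact ((adj.homEquiv L' B).apply_symm_apply l').symm
  have hfac' : l = ((adj.homEquiv L' A) k').hom ≫ (a.map α).hom := congrArg (fun t => t.hom) hfac
  refine supp_iff.2 fun x hx i => ?_
  let G := DerivedCategory.homologyFunctor X.Modules i ⋙ DerSch.stalkFunctor X x
  have hex := (DerivedCategory.HomologySequence.exact₂ _ hL i).map (DerSch.stalkFunctor X x)
  refine hex.isZero_of_both_zeros ?_ ((supp_iff.1 hC x hx i).eq_of_tgt _ _)
  have hzA : IsZero (G.obj (a.obj A).obj) := supp_iff.1 hA x hx i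
  show G.map l = 0
  rw [hfac', G.map_comp, hzA.eq_of_tgt (G.map _) 0, zero_comp]

end Groth.Agent.ShriekSupp7
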